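import Mathlib
import Groth.Prelude.Def_Wider
import Groth.Agent.H12.DualDepth

/-!
# S0364: basic definition `VanO`
-/

set_option autoImplicit false
universe u
open CategoryTheory CategoryTheory.Limits DerivedCategory Pretriangulated

namespace Groth.Agent.H71.DK

attribute [local instance] HasDerivedCategory.standard

variable {A : Type u} [CommRing A]

/-- vanishing of `Hom(X, W[i])` for objects of `D(A)` -/
def VanO (X W : Dual.D A) (i : ℤ) : Prop := ∀ φ : X ⟶ W⟦i⟧, φ = 0

end Groth.Agent.H71.DK
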