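import Mathlib
import Groth.Prelude.Def_Wider
import Groth.Agent.H12.DualDepth
import Groth.Agent.H71.DK.Defs

/-!
# S0364: module-level dévissage for modules supported at a maximal ideal
-/

set_option autoImplicit false
universe u
open CategoryTheory CategoryTheory.Limits DerivedCategory Pretriangulated

namespace Groth.Agent.H71.DK

attribute [local instance] HasDerivedCategory.standard

open Groth.Agent.H12.DualDepth DerivedCategory.TStructure Groth.Agent.H82

variable {A : Type u} [CommRing A]

/-- finite modules killed by `J` -/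
def Tors (J : Ideal A) (M : Type u) [AddCommGroup M] [Module A M] : Prop :=
  Module.Finite A M ∧ ∀ c ∈ J, ∀ y : M, c • y = 0

section

variable (m J : Ideal A) [hm : m.IsMaximal] (hJ : ∀ q : Ideal A, q.IsPrime → J ≤ q → q = m)

include hJ in
/-- a nonzero torsion module contains a copy of `A ⧸ m` -/
theorem exists_injective_of_tors [IsNoetherianRing A] (M : Type u) [AddCommGroup M] [Module A M]
    (hM : Tors J M) [Nontrivial M] :
    ∃ f : (A ⧸ m) →ₗ[A] M, Function.Injective f := by
  obtain ⟨q, hq⟩ := associatedPrimes.nonempty A M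
  obtain ⟨hqp, y, hy⟩ := isAssociatedPrime_iff.mp hq
  have hJq : J ≤ q := by
    intro c hc
    rw [hy, Submodule.mem_colon_singleton, Submodule.mem_bot]
    exact hM.2 c hc y
  have hqm : q = m := hJ q hqp hJq
  have hker : LinearMap.ker (LinearMap.toSpanSingleton A M y) = m := by
    rw [← hqm, hy]
    ext c
    rw [LinearMap.mem_ker, LinearMap.toSpanSingleton_apply, Submodule.mem_colon_singleton,
      Submodule.mem_bot]
  refine ⟨Submodule.liftQ m (LinearMap.toSpanSingleton A M y) (le_of_eq hker.symm), ?_⟩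
  rw [← LinearMap.ker_eq_bot]
  exact Submodule.ker_liftQ_eq_bot _ _ _ (le_of_eq hker)

include hJ in
/-- a nonzero torsion module surjects onto `A ⧸ m` -/
theorem exists_surjective_of_tors (M : Type u) [AddCommGroup M] [Module A M]
    (hM : Tors J M) [Nontrivial M] :
    ∃ f : M →ₗ[A] (A ⧸ m), Function.Surjective f := by
  haveI := hM.1
  obtain ⟨M', hM'⟩ := IsCoatomic.exists_coatom (α := Submodule A M)
  have hsimple : IsSimpleModule A (M ⧸ M') := isSimpleModule_iff_isCoatom.mpr hM'
  obtain ⟨𝔫, h𝔫, ⟨e⟩⟩ := isSimpleModule_iff_quot_maximal.mp hsimple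
  have hJ𝔫 : J ≤ 𝔫 := by
    intro c hc
    have h1 : c • (e.symm (1 : A ⧸ 𝔫)) = 0 := by
      obtain ⟨y, hy⟩ := Submodule.mkQ_surjective M' (e.symm (1 : A ⧸ 𝔫))
      rw [← hy, ← map_smul, hM.2 c hc y, map_zero]
    rw [← map_smul] at h1
    have h2 : c • (1 : A ⧸ 𝔫) = 0 := e.symm.injective (h1.trans (map_zero _).symm)
    rw [← Ideal.Quotient.eq_zero_iff_mem]
    rw [Algebra.smul_def, mul_one] at h2
    exact h2
  have h𝔫m : 𝔫 = m := hJ 𝔫 h𝔫.isPrime hJ𝔫
  subst h𝔫m
  exact ⟨e.toLinearMap ∘ₗ M'.mkQ, e.surjective.comp (Submodule.mkQ_surjective M')⟩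

include hJ in
/-- dévissage: vanishing on the residue field gives vanishing on torsion modules -/
theorem van_of_tors [IsNoetherianRing A] (W : Dual.D A) (p : ℤ)
    (hκ : Van W p (ModuleCat.of A (A ⧸ m))) (M : Type u) [AddCommGroup M] [Module A M]
    (hM : Tors J M) : Van W p (ModuleCat.of A M) := by
  haveI := hM.1
  refine van_of_primes W p J (fun q hq hle => ?_) M hM.2
  rw [hJ q hq hle]
  exact hκ

include hJ in
/-- top degree: restriction to a copy of the residue field is surjective -/
theorem exists_surjective_hom_of_tors [IsNoetherianRing A] (W : Dual.D A) (p p' : ℤ)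
    (hp : p + 1 = p') (hκ : Van W p' (ModuleCat.of A (A ⧸ m))) (M : Type u) [AddCommGroup M]
    [Module A M] (hM : Tors J M) [Nontrivial M] :
    ∃ q : (sM (ModuleCat.of A M) ⟶ W⟦p⟧) →ₗ[A] (sM (ModuleCat.of A (A ⧸ m)) ⟶ W⟦p⟧),
      Function.Surjective q := by
  haveI := hM.1
  obtain ⟨f, hf⟩ := exists_injective_of_tors m J hJ M hM
  have hS := TorFlat.shortExact_of f (LinearMap.range f).mkQ hf
    (Submodule.mkQ_surjective _) f.exact_map_mkQ_range
  have hQ : Tors J (M ⧸ LinearMap.range f) := by
    refine ⟨inferInstance, fun c hc y => ?_⟩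
    obtain ⟨y', rfl⟩ := Submodule.mkQ_surjective _ y
    rw [← map_smul, hM.2 c hc y', map_zero]
  have h3 : Van W p' (ModuleCat.of A (M ⧸ LinearMap.range f)) :=
    van_of_tors m J hJ W p' hκ _ hQ
  refine ⟨Linear.leftComp A (W⟦p⟧)
    ((singleFunctor (ModuleCat.{u} A) 0).map (ModuleCat.ofHom f)), ?_⟩
  intro ψ
  obtain ⟨φ, hφ⟩ := exists_lift hS W p p' hp h3 ψ
  exact ⟨φ, hφ.symm⟩

include hJ in
/-- bottom degree: nonvanishing on the residue field propagates to torsion modules -/
theorem not_van_of_tors [IsNoetherianRing A] (W : Dual.D A) (p p' : ℤ)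
    (hp : p + 1 = p') (hκ : Van W p (ModuleCat.of A (A ⧸ m)))
    (hκ' : ¬ Van W p' (ModuleCat.of A (A ⧸ m))) (M : Type u) [AddCommGroup M]
    [Module A M] (hM : Tors J M) [Nontrivial M] : ¬ Van W p' (ModuleCat.of A M) := by
  haveI := hM.1
  obtain ⟨f, hf⟩ := exists_surjective_of_tors m J hJ M hM
  have hS := TorFlat.shortExact_of (LinearMap.ker f).subtype f (Submodule.injective_subtype _) hf
    (LinearMap.exact_subtype_ker_map f)
  have hK : Tors J (LinearMap.ker f) := by
    refine ⟨?_, fun c hc y => ?_⟩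
    · haveI : IsNoetherian A M := isNoetherian_of_isNoetherianRing_of_finite A M
      exact Module.Finite.of_injective (LinearMap.ker f).subtype (Submodule.injective_subtype _)
    · apply Subtype.ext
      rw [Submodule.coe_smul, hM.2 c hc (y : M)]
      rfl
  have h1 : Van W p (ModuleCat.of A (LinearMap.ker f)) := van_of_tors m J hJ W p hκ _ hK
  intro h2
  exact hκ' (van_right hS W p p' hp h2 h1)

end

end Groth.Agent.H71.DK
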