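import Mathlib
import Groth.Prelude.Def_Wider
import Groth.Agent.H12.DualDepth
import Groth.Agent.H12.LocHomF
import Groth.Agent.H71.DK.Defs
import Groth.Agent.H71.DK.Mod
import Groth.Agent.H58.DK1
import Groth.Agent.H58.DK2
import Groth.Agent.H64.DK3
import Groth.Agent.H64.DK8

/-!
# S0364: the Koszul tower over a dualizing complex (first/second variable inductions)
-/

set_option autoImplicit false
universe u
open CategoryTheory CategoryTheory.Limits DerivedCategory Pretriangulated

namespace Groth.Agent.H71.DK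

attribute [local instance] HasDerivedCategory.standard

open Groth.Agent.H12.DualDepth DerivedCategory.TStructure
open Groth.Agent.H58.DK1 Groth.Agent.H58.DK2 Groth.Agent.H64.DK3 Groth.Agent.H64.DK8

variable {A : Type u} [CommRing A]

/-- `IsKos ω l X`: `X` is obtained from `ω` by successively taking cones of `a • 𝟙` for the
elements `a` of `l` (last element first). -/
inductive IsKos (ω : Dual.D A) : List A → Dual.D A → Prop
  | nil : IsKos ω [] ω
  | cons {l : List A} {X Z : Dual.D A} (a : A) (g : X ⟶ Z) (h : Z ⟶ X⟦(1 : ℤ)⟧)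
      (hT : Triangle.mk (a • 𝟙 X) g h ∈ distTriang (Dual.D A)) (hX : IsKos ω l X) :
      IsKos ω (a :: l) Z

theorem exists_isKos (ω : Dual.D A) (l : List A) : ∃ X : Dual.D A, IsKos ω l X := by
  induction l with
  | nil => exact ⟨ω, IsKos.nil⟩
  | cons a l ih =>
    obtain ⟨X, hX⟩ := ih
    obtain ⟨Z, g, h, hT⟩ := distinguished_cocone_triangle (a • 𝟙 X)
    exact ⟨Z, IsKos.cons a g h hT hX⟩

theorem span_cons (a : A) (l : List A) :
    Ideal.span {b | b ∈ a :: l} = Ideal.span {a} ⊔ Ideal.span {b | b ∈ l} := by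
  have : {b | b ∈ a :: l} = insert a {b | b ∈ l} := by
    ext b
    simp [List.mem_cons]
  rw [this, Ideal.span_insert]

/-- nilpotency of the elements of `l` on `X` -/
theorem isKos_nilpotent {ω : Dual.D A} {l : List A} {X : Dual.D A} (hK : IsKos ω l X) :
    ∀ a ∈ l, ∃ N : ℕ, a ^ N • 𝟙 X = 0 := by
  induction hK with
  | nil => intro a ha; simp at ha
  | cons a₀ g h hT hX ih =>
    intro a ha
    rcases List.mem_cons.1 ha with rfl | ha'
    · refine ⟨2, ?_⟩
      rw [pow_two]
      exact smul_id_cone_self a g h hT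
    · obtain ⟨N, hN⟩ := ih a ha'
      refine ⟨N + N, ?_⟩
      rw [pow_add]
      exact smul_id_cone_sq a₀ (a ^ N) g h hT hN

/-- cohomology of the tower: finite and bounded -/
theorem isKos_homology [IsNoetherianRing A] {ω : Dual.D A} (hω : Dual.IsDualizing A ω)
    {l : List A} {X : Dual.D A} (hK : IsKos ω l X) :
    (∀ j : ℤ, Module.Finite A ((homologyFunctor (ModuleCat.{u} A) j).obj X)) ∧
      ∃ j₀ j₁ : ℤ, X.IsGE j₀ ∧ X.IsLE j₁ := by
  induction hK with
  | nil =>
    refine ⟨fun j => hω.finite_cohomology j, ?_⟩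
    obtain ⟨a₀, b₀, hab⟩ := hω.finite_injective_dimension
    have hz : ∀ j : ℤ, (j < a₀ ∨ b₀ < j) →
        IsZero ((homologyFunctor (ModuleCat.{u} A) j).obj ω) :=
      fun j hj => Groth.Agent.H12.LocHom.isZero_homology_of_isDualizing ω a₀ b₀ hab j hj
    exact ⟨a₀, b₀, (isGE_iff ω a₀).2 (fun j hj => hz j (Or.inl hj)),
      (isLE_iff ω b₀).2 (fun j hj => hz j (Or.inr hj))⟩
  | cons a₀ g h hT hX ih =>
    obtain ⟨hfin, j₀, j₁, hGE, hLE⟩ := ih
    refine ⟨fun j => finite_homology_cone a₀ g h hT hfin j, j₀ - 1, j₁, ?_⟩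
    haveI := hGE
    haveI := hLE
    exact isGE_isLE_cone a₀ g h hT j₀ j₁

/-- first variable: `Hom(X, ω[i])` for the tower -/
theorem isKos_hom {ω : Dual.D A} (hω : Dual.IsDualizing A ω)
    {l : List A} {X : Dual.D A} (hK : IsKos ω l X) :
    ∀ n : ℤ, n = l.length →
      (∀ i : ℤ, (i < 0 ∨ n < i) → VanO X ω i) ∧
      ∃ f : A →ₗ[A] (X ⟶ ω⟦n⟧), Function.Surjective f ∧
        LinearMap.ker f = Ideal.span {b | b ∈ l} := by
  induction hK with
  | nil =>
    intro n hn
    simp only [List.length_nil, Nat.cast_zero] at hn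
    subst hn
    refine ⟨fun i hi φ => ?_, ?_⟩
    · haveI := hω.ext_self_subsingleton i (by omega)
      exact Subsingleton.elim _ _
    · refine ⟨LinearMap.toSpanSingleton A _ ((shiftFunctorZero (Dual.D A) ℤ).inv.app ω), ?_, ?_⟩
      · intro φ
        obtain ⟨c, hc⟩ := hω.toEnd_bijective.2 (φ ≫ (shiftFunctorZero (Dual.D A) ℤ).hom.app ω)
        refine ⟨c, ?_⟩
        rw [LinearMap.toSpanSingleton_apply]
        have hc' : c • 𝟙 ω = φ ≫ (shiftFunctorZero (Dual.D A) ℤ).hom.app ω := hc
        calc c • (shiftFunctorZero (Dual.D A) ℤ).inv.app ω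
            = (c • 𝟙 ω) ≫ (shiftFunctorZero (Dual.D A) ℤ).inv.app ω := by
              rw [Linear.smul_comp, Category.id_comp]
          _ = φ := by
              rw [hc', Category.assoc, Iso.hom_inv_id_app, Category.comp_id]
      · have hspan : Ideal.span {b : A | b ∈ ([] : List A)} = ⊥ := by simp
        rw [hspan, LinearMap.ker_eq_bot']
        intro c hc
        rw [LinearMap.toSpanSingleton_apply] at hc
        apply hω.toEnd_bijective.1
        show c • 𝟙 ω = (0 : A) • 𝟙 ω
        rw [zero_smul]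
        calc c • 𝟙 ω = (c • (shiftFunctorZero (Dual.D A) ℤ).inv.app ω) ≫
              (shiftFunctorZero (Dual.D A) ℤ).hom.app ω := by
              rw [Linear.smul_comp, Iso.inv_hom_id_app]
              rfl
          _ = 0 := by rw [hc, zero_comp]
  | @cons l X Z a₀ g h hT hX ih =>
    intro n hn
    have hn' : n - 1 = l.length := by
      rw [hn, List.length_cons]
      push_cast
      ring
    obtain ⟨hvan, f, hf, hker⟩ := ih (n - 1) hn'
    refine ⟨fun i hi => ?_, ?_⟩
    · exact vanO_cone_left a₀ g h hT ω (i - 1) i (by omega) (hvan (i - 1) (by omega))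
        (hvan i (by omega))
    · obtain ⟨q, hq, hqker⟩ := exists_top_cone_left a₀ g h hT ω (n - 1) n (by omega)
        (hvan n (by omega))
      refine ⟨q ∘ₗ f, hq.comp hf, ?_⟩
      ext c
      rw [LinearMap.mem_ker, LinearMap.comp_apply, hqker, span_cons, Submodule.mem_sup]
      constructor
      · rintro ⟨ψ', hψ'⟩
        obtain ⟨c', rfl⟩ := hf ψ'
        have h1 : c - a₀ * c' ∈ LinearMap.ker f := by
          rw [LinearMap.mem_ker, map_sub, hψ', ← smul_eq_mul, map_smul, sub_self]
        rw [hker] at h1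
        exact ⟨a₀ * c', Ideal.mem_span_singleton'.2 ⟨c', mul_comm _ _⟩, c - a₀ * c', h1, by ring⟩
      · rintro ⟨y, hy, z, hz, rfl⟩
        obtain ⟨c', rfl⟩ := Ideal.mem_span_singleton'.1 hy
        rw [← hker, LinearMap.mem_ker] at hz
        refine ⟨f c', ?_⟩
        rw [map_add, hz, add_zero, mul_comm, ← smul_eq_mul, map_smul]

/-- second variable: `Hom(X, Y[i])` for `Y` in the tower, `X` on which `l` acts nilpotently -/
theorem isKos_right {ω : Dual.D A} {l : List A} {Y : Dual.D A} (hK : IsKos ω l Y)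
    (X : Dual.D A) (hnil : ∀ a ∈ l, ∃ N : ℕ, a ^ N • 𝟙 X = 0) (t : ℤ)
    (h1 : ∀ i : ℤ, i < t → VanO X ω i) (h2 : ¬ VanO X ω t) :
    (∀ i : ℤ, i < t - l.length → VanO X Y i) ∧ ¬ VanO X Y (t - l.length) := by
  induction hK with
  | nil =>
    simp only [List.length_nil, Nat.cast_zero, sub_zero]
    exact ⟨h1, h2⟩
  | @cons l Y Z a₀ g h hT hY ih =>
    obtain ⟨ih1, ih2⟩ := ih (fun a ha => hnil a (List.mem_cons_of_mem _ ha))
    have hlen : ((a₀ :: l).length : ℤ) = l.length + 1 := by
      rw [List.length_cons]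
      push_cast
      ring
    rw [hlen]
    refine ⟨fun i hi => ?_, ?_⟩
    · exact vanO_cone_right a₀ g h hT X i (i + 1) rfl (ih1 i (by omega)) (ih1 (i + 1) (by omega))
    · -- find a nonzero `a₀`-torsion element
      have hex : ∃ ψ₀ : X ⟶ Y⟦t - (l.length : ℤ)⟧, ψ₀ ≠ 0 := by
        by_contra hcon
        exact ih2 (fun φ => by
          by_contra hφ
          exact hcon ⟨φ, hφ⟩)
      obtain ⟨ψ₀, hψ₀⟩ := hex
      obtain ⟨N, hN⟩ := hnil a₀ (List.mem_cons_self)
      have hN' : ∃ k : ℕ, a₀ ^ k • ψ₀ = 0 := by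
        refine ⟨N, ?_⟩
        calc a₀ ^ N • ψ₀ = (a₀ ^ N • 𝟙 X) ≫ ψ₀ := by rw [Linear.smul_comp, Category.id_comp]
          _ = 0 := by rw [hN, zero_comp]
      classical
      have hk0 : Nat.find hN' ≠ 0 := by
        intro h0
        have := Nat.find_spec hN'
        rw [h0, pow_zero, one_smul] at this
        exact hψ₀ this
      obtain ⟨k', hk'⟩ := Nat.exists_eq_succ_of_ne_zero hk0
      have hψ : a₀ ^ k' • ψ₀ ≠ 0 := Nat.find_min hN' (by omega)
      have haψ : a₀ • (a₀ ^ k' • ψ₀) = 0 := by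
        rw [smul_smul, ← pow_succ', ← Nat.succ_eq_add_one, ← hk']
        exact Nat.find_spec hN'
      exact not_vanO_cone_right a₀ g h hT X (t - (l.length + 1)) (t - l.length) (by omega)
        (a₀ ^ k' • ψ₀) hψ haψ

end Groth.Agent.H71.DK
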