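import Mathlib
import Groth.Agent.H71.Catenary
import Groth.Agent.H71.DimFun

/-!
# Dimension functions on `Spec A`: coheight and height
-/

set_option autoImplicit false
universe u

namespace Groth.Agent.H71.DimF

open Groth.Agent.H71.CAT

variable {A : Type u} [CommRing A] [IsNoetherianRing A] (δ : PrimeSpectrum A → ℤ)
  (hcov : ∀ p q : PrimeSpectrum A, p ⋖ q → δ p = δ q + 1)

include hcov

/-- along a saturated chain `δ` drops by the length -/
theorem delta_relSeries (t : RelSeries {(a, b) : PrimeSpectrum A × PrimeSpectrum A | a ⋖ b})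
    (i : Fin (t.length + 1)) : δ t.head = δ (t i) + (i : ℕ) := by
  induction i using Fin.induction with
  | zero =>
    show δ (t 0) = δ (t 0) + ((0 : ℕ) : ℤ)
    simp
  | succ i ih =>
    have h : t.toFun i.castSucc ⋖ t.toFun i.succ := t.step i
    have h1 := hcov _ _ h
    have h2 : δ t.head = δ (t.toFun i.castSucc) + ((i.castSucc : Fin (t.length + 1)) : ℕ) := ih
    rw [h2, h1]
    simp only [Fin.val_castSucc, Fin.val_succ]
    push_cast
    ring

theorem delta_sat {x y : PrimeSpectrum A} {L : ℕ} (h : Sat x y L) : δ x = δ y + L := by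
  obtain ⟨t, rfl, rfl, rfl⟩ := h
  have := delta_relSeries δ hcov t (Fin.last _)
  rw [Fin.val_last] at this
  exact this

theorem delta_lt {x y : PrimeSpectrum A} (h : x < y) : δ y < δ x := by
  let s : LTSeries (PrimeSpectrum A) := RelSeries.singleton _ x |>.snoc y h
  obtain ⟨L, hL, hsat⟩ := exists_sat_refinement s
  have h1 : s.head = x := by simp [s]
  have h2 : s.last = y := by simp [s]
  have h3 : s.length = 1 := by simp [s]
  rw [h1, h2] at hsat
  have := delta_sat δ hcov hsat
  omega

theorem delta_anti {x y : PrimeSpectrum A} (h : x ≤ y) : δ y ≤ δ x := by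
  rcases eq_or_lt_of_le h with rfl | hlt
  · exact le_rfl
  · exact (delta_lt δ hcov hlt).le

theorem exists_sat_of_le {x y : PrimeSpectrum A} (h : x ≤ y) : ∃ L : ℕ, Sat x y L := by
  rcases eq_or_lt_of_le h with rfl | hlt
  · exact ⟨0, RelSeries.singleton _ x, rfl, rfl, rfl⟩
  · let s : LTSeries (PrimeSpectrum A) := RelSeries.singleton _ x |>.snoc y hlt
    obtain ⟨L, -, hsat⟩ := exists_sat_refinement s
    have h1 : s.head = x := by simp [s]
    have h2 : s.last = y := by simp [s]
    rw [h1, h2] at hsat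
    exact ⟨L, hsat⟩

/-- along a strictly increasing chain `δ` drops at least by the length -/
theorem delta_ltSeries (l : LTSeries (PrimeSpectrum A)) (i : Fin (l.length + 1)) :
    δ (l i) + (i : ℕ) ≤ δ l.head := by
  induction i using Fin.induction with
  | zero =>
    show δ (l 0) + ((0 : ℕ) : ℤ) ≤ δ (l 0)
    simp
  | succ i ih =>
    have h : l i.castSucc < l i.succ := l.step i
    have h1 := delta_lt δ hcov h
    have h2 : δ (l i.castSucc) + ((i.castSucc : Fin (l.length + 1)) : ℕ) ≤ δ l.head := ih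
    simp only [Fin.val_castSucc] at h2
    simp only [Fin.val_succ]
    push_cast
    omega

theorem length_le_delta (l : LTSeries (PrimeSpectrum A)) :
    δ l.last + l.length ≤ δ l.head := by
  have := delta_ltSeries δ hcov l (Fin.last _)
  rw [Fin.val_last] at this
  exact this

/-- the saturated chain as an `LTSeries` -/
theorem exists_ltSeries_of_sat {x y : PrimeSpectrum A} {L : ℕ} (h : Sat x y L) :
    ∃ l : LTSeries (PrimeSpectrum A), l.head = x ∧ l.last = y ∧ l.length = L := by
  obtain ⟨t, rfl, rfl, rfl⟩ := h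
  exact ⟨toLT t, rfl, rfl, rfl⟩

/-- coheight from a dimension function vanishing at the maximal ideals -/
theorem coheight_eq (hmax : ∀ m : PrimeSpectrum A, m.asIdeal.IsMaximal → δ m = 0)
    (p : PrimeSpectrum A) : 0 ≤ δ p ∧ Order.coheight p = ((δ p).toNat : ℕ∞) := by
  obtain ⟨m, hm, hpm⟩ := Ideal.exists_le_maximal p.asIdeal p.2.ne_top
  have hle : p ≤ (⟨m, hm.isPrime⟩ : PrimeSpectrum A) := hpm
  have hδm := hmax ⟨m, hm.isPrime⟩ hm
  have hnonneg : ∀ x : PrimeSpectrum A, 0 ≤ δ x := by
    intro x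
    obtain ⟨m', hm', hxm'⟩ := Ideal.exists_le_maximal x.asIdeal x.2.ne_top
    have h1 : x ≤ (⟨m', hm'.isPrime⟩ : PrimeSpectrum A) := hxm'
    have h2 := delta_anti δ hcov h1
    rw [hmax ⟨m', hm'.isPrime⟩ hm'] at h2
    exact h2
  refine ⟨hnonneg p, le_antisymm ?_ ?_⟩
  · apply Order.coheight_le
    intro l hl
    have h1 := length_le_delta δ hcov l
    rw [hl] at h1
    have h2 := hnonneg l.last
    have h3 : l.length ≤ (δ p).toNat := by omega
    exact_mod_cast h3
  · obtain ⟨L, hsat⟩ := exists_sat_of_le δ hcov hle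
    have h1 := delta_sat δ hcov hsat
    rw [hδm] at h1
    obtain ⟨l, hl1, hl2, hl3⟩ := exists_ltSeries_of_sat δ hcov hsat
    have h2 : (l.length : ℕ∞) ≤ Order.coheight l.head := Order.length_le_coheight_head
    rw [hl1, hl3] at h2
    have h3 : (δ p).toNat = L := by omega
    rw [h3]
    exact h2

/-- height from a dimension function with value `n` at the minimal primes -/
theorem height_eq (n : ℤ) (hmin : ∀ q : PrimeSpectrum A, q.asIdeal ∈ minimalPrimes A → δ q = n)
    (p : PrimeSpectrum A) : δ p ≤ n ∧ Order.height p = ((n - δ p).toNat : ℕ∞) := by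
  have hle_n : ∀ x : PrimeSpectrum A, δ x ≤ n := by
    intro x
    obtain ⟨q, hq, hqx⟩ := Ideal.exists_minimalPrimes_le (I := (⊥ : Ideal A)) (J := x.asIdeal) bot_le
    have h1 : (⟨q, hq.1.1⟩ : PrimeSpectrum A) ≤ x := hqx
    have h2 := delta_anti δ hcov h1
    rw [hmin ⟨q, hq.1.1⟩ hq] at h2
    exact h2
  refine ⟨hle_n p, le_antisymm ?_ ?_⟩
  · apply Order.height_le
    intro l hl
    have h1 := length_le_delta δ hcov l
    rw [hl] at h1
    have h2 := hle_n l.head
    have h3 : l.length ≤ (n - δ p).toNat := by omega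
    exact_mod_cast h3
  · obtain ⟨q, hq, hqp⟩ := Ideal.exists_minimalPrimes_le (I := (⊥ : Ideal A)) (J := p.asIdeal) bot_le
    have hle : (⟨q, hq.1.1⟩ : PrimeSpectrum A) ≤ p := hqp
    obtain ⟨L, hsat⟩ := exists_sat_of_le δ hcov hle
    have h1 := delta_sat δ hcov hsat
    rw [hmin ⟨q, hq.1.1⟩ hq] at h1
    obtain ⟨l, hl1, hl2, hl3⟩ := exists_ltSeries_of_sat δ hcov hsat
    have h2 : (l.length : ℕ∞) ≤ Order.height l.last := Order.length_le_height_last
    rw [hl2, hl3] at h2
    have h3 : (n - δ p).toNat = L := by omega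
    rw [h3]
    exact h2

end Groth.Agent.H71.DimF
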