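import Mathlib
import Groth.Prelude.Def_Wider
import Groth.Agent.H12.DualDepth
import Groth.Agent.H71.DK.Defs
import Groth.Agent.H71.DK.Mod
import Groth.Agent.H2.Matlis1
import Groth.Agent.H2.Matlis2

/-!
# S1749: `Hom_D(N, ω) ≅ Hom_A(N, E)` for finite length `N`
-/

set_option autoImplicit false
universe u
open CategoryTheory CategoryTheory.Limits DerivedCategory Pretriangulated

namespace Groth.Agent.H71.DKF

attribute [local instance] HasDerivedCategory.standard

open Groth.Agent.H12.DualDepth DerivedCategory.TStructure Groth.Agent.H82 Groth.Agent.H71.DK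
open IsLocalRing

variable {A : Type u} [CommRing A]

section LES

theorem eq_zero_of_comp_g {S : ShortComplex (ModuleCat.{u} A)} (hS : S.ShortExact) (W : Dual.D A)
    (i j : ℤ) (h : i + 1 = j) (h₁ : Van W i S.X₁) (φ : sM S.X₃ ⟶ W⟦j⟧)
    (hφ : (singleFunctor (ModuleCat.{u} A) 0).map S.g ≫ φ = 0) : φ = 0 := by
  have h0 : hS.singleTriangle.mor₂ ≫ φ = 0 := hφ
  obtain ⟨g, hg⟩ := Triangle.yoneda_exact₃ _ hS.singleTriangle_distinguished φ h0
  obtain ⟨ψ, hψ⟩ := exists_shift_eq (sM S.X₁) W i j h g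
  rw [hg, hψ, h₁ ψ, Functor.map_zero, zero_comp]
  exact comp_zero

theorem exists_of_comp_f {S : ShortComplex (ModuleCat.{u} A)} (hS : S.ShortExact) (W' : Dual.D A)
    (φ : sM S.X₂ ⟶ W') (hφ : (singleFunctor (ModuleCat.{u} A) 0).map S.f ≫ φ = 0) :
    ∃ ψ : sM S.X₃ ⟶ W', φ = (singleFunctor (ModuleCat.{u} A) 0).map S.g ≫ ψ := by
  obtain ⟨g, hg⟩ := Triangle.yoneda_exact₂ _ hS.singleTriangle_distinguished φ hφ
  exact ⟨g, hg⟩

end LES

/-- the comparison map `Hom_A(N, X) → Hom_D(N[0], W')` attached to `c : X[0] ⟶ W'` -/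
noncomputable def Psi {X : Type u} [AddCommGroup X] [Module A X] {W' : Dual.D A}
    (c : sM (ModuleCat.of A X) ⟶ W') (N : Type u) [AddCommGroup N] [Module A N] :
    (N →ₗ[A] X) →ₗ[A] (sM (ModuleCat.of A N) ⟶ W') where
  toFun g := (singleFunctor (ModuleCat.{u} A) 0).map (ModuleCat.ofHom g) ≫ c
  map_add' g g' := by
    rw [ModuleCat.ofHom_add, Functor.map_add, Preadditive.add_comp]
  map_smul' a g := by
    have h1 : ModuleCat.ofHom (a • g) = a • ModuleCat.ofHom g := rfl
    rw [RingHom.id_apply, h1, Functor.map_smul, Linear.smul_comp]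

theorem Psi_apply {X : Type u} [AddCommGroup X] [Module A X] {W' : Dual.D A}
    (c : sM (ModuleCat.of A X) ⟶ W') (N : Type u) [AddCommGroup N] [Module A N]
    (g : N →ₗ[A] X) :
    Psi c N g = (singleFunctor (ModuleCat.{u} A) 0).map (ModuleCat.ofHom g) ≫ c := rfl

theorem Psi_comp {X : Type u} [AddCommGroup X] [Module A X] {W' : Dual.D A}
    (c : sM (ModuleCat.of A X) ⟶ W') {N N' : Type u} [AddCommGroup N] [Module A N]
    [AddCommGroup N'] [Module A N'] (g : N' →ₗ[A] X) (h : N →ₗ[A] N') :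
    Psi c N (g ∘ₗ h) =
      (singleFunctor (ModuleCat.{u} A) 0).map (ModuleCat.ofHom h) ≫ Psi c N' g := by
  rw [Psi_apply, Psi_apply, ModuleCat.ofHom_comp, Functor.map_comp, Category.assoc]

/-- a finite length module over a local ring is killed by a power of the maximal ideal -/
theorem exists_pow_kill [IsLocalRing A] {M : Type u}
    [AddCommGroup M] [Module A M] (h : IsFiniteLength A M) :
    ∃ n : ℕ, ∀ a ∈ maximalIdeal A ^ n, ∀ x : M, a • x = 0 := by
  obtain ⟨hN, hA⟩ := isFiniteLength_iff_isNoetherian_isArtinian.1 h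
  let f : ℕ →o (Submodule A M)ᵒᵈ :=
    ⟨fun n => OrderDual.toDual (maximalIdeal A ^ n • (⊤ : Submodule A M)), fun a b hab => by
      show maximalIdeal A ^ b • (⊤ : Submodule A M) ≤ maximalIdeal A ^ a • ⊤
      exact Submodule.smul_mono_left (Ideal.pow_le_pow_right hab)⟩
  obtain ⟨n, hn⟩ := IsArtinian.monotone_stabilizes f
  have h1 : maximalIdeal A ^ n • (⊤ : Submodule A M) = maximalIdeal A ^ (n + 1) • ⊤ :=
    congrArg OrderDual.ofDual (hn (n + 1) (Nat.le_succ n))
  have h2 : maximalIdeal A ^ n • (⊤ : Submodule A M) = ⊥ := by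
    apply Submodule.eq_bot_of_le_smul_of_le_jacobson_bot (maximalIdeal A) _
      (IsNoetherian.noetherian _) _ (IsLocalRing.maximalIdeal_le_jacobson _)
    conv_lhs => rw [h1, pow_succ', mul_smul]
  refine ⟨n, fun a ha x => ?_⟩
  have : a • x ∈ maximalIdeal A ^ n • (⊤ : Submodule A M) :=
    Submodule.smul_mem_smul ha Submodule.mem_top
  rw [h2] at this
  exact (Submodule.mem_bot _).1 this

section EJ

variable {E : Type u} [AddCommGroup E] [Module A E]

/-- `E[J]` -/
abbrev EJ (J : Ideal A) (E : Type u) [AddCommGroup E] [Module A E] : Submodule A E :=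
  Submodule.torsionBySet A E (J : Set A)

theorem mem_EJ (J : Ideal A) (e : E) : e ∈ EJ J E ↔ ∀ a ∈ J, a • e = 0 := by
  rw [Submodule.mem_torsionBySet_iff]
  exact ⟨fun h a ha => h ⟨a, ha⟩, fun h a => h a.1 a.2⟩

theorem smul_EJ (J : Ideal A) (a : A) (ha : a ∈ J) (y : EJ J E) : a • y = 0 :=
  Subtype.ext ((mem_EJ J y.1).1 y.2 a ha)

/-- maps from a `J`-torsion module land in `E[J]` -/
noncomputable def toEJ (J : Ideal A) {N : Type u} [AddCommGroup N] [Module A N]
    (hN : ∀ a ∈ J, ∀ y : N, a • y = 0) (g : N →ₗ[A] E) : N →ₗ[A] EJ J E :=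
  g.codRestrict _ (fun y => by
    rw [mem_EJ]
    intro a ha
    rw [← map_smul, hN a ha, map_zero])

theorem toEJ_apply (J : Ideal A) {N : Type u} [AddCommGroup N] [Module A N]
    (hN : ∀ a ∈ J, ∀ y : N, a • y = 0) (g : N →ₗ[A] E) (y : N) :
    ((toEJ J hN g y : EJ J E) : E) = g y := rfl

/-- `Hom(N, E[J]) ≃ Hom(N, E)` for `J`-torsion `N` -/
noncomputable def homEJEquiv (J : Ideal A) {N : Type u} [AddCommGroup N] [Module A N]
    (hN : ∀ a ∈ J, ∀ y : N, a • y = 0) : (N →ₗ[A] EJ J E) ≃ₗ[A] (N →ₗ[A] E) where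
  toFun g := (EJ J E).subtype ∘ₗ g
  map_add' g g' := LinearMap.comp_add _ _ _
  map_smul' a g := LinearMap.comp_smul _ _ _
  invFun g := toEJ J hN g
  left_inv g := LinearMap.ext fun y => Subtype.ext rfl
  right_inv g := LinearMap.ext fun y => rfl

variable [IsLocalRing A] [IsNoetherianRing A] {f : IsLocalRing.ResidueField A →ₗ[A] E}

theorem finite_EJ (hf : InjHull.IsInjectiveHull f) (n : ℕ) :
    Module.Finite A (EJ (maximalIdeal A ^ n) E) := by
  have hfl : IsFiniteLength A ((A ⧸ maximalIdeal A ^ n) →ₗ[A] E) := by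
    rw [← Module.length_ne_top_iff,
      Groth.Agent.H2.Matlis.length_dual hf _ (Groth.Agent.H2.Matlis.isFiniteLength_quotient_pow A n)]
    exact Module.length_ne_top_iff.2 (Groth.Agent.H2.Matlis.isFiniteLength_quotient_pow A n)
  haveI : Module.Finite A ((A ⧸ maximalIdeal A ^ n) →ₗ[A] E) := by
    obtain ⟨h1, _⟩ := isFiniteLength_iff_isNoetherian_isArtinian.1 hfl
    infer_instance
  let ev : ((A ⧸ maximalIdeal A ^ n) →ₗ[A] E) →ₗ[A] EJ (maximalIdeal A ^ n) E :=
    (LinearMap.applyₗ (Submodule.Quotient.mk (1 : A) : A ⧸ maximalIdeal A ^ n)).codRestrict _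
      (fun g => by
        rw [mem_EJ]
        intro a ha
        show a • g (Submodule.Quotient.mk (1 : A)) = 0
        rw [← map_smul, ← Submodule.Quotient.mk_smul, smul_eq_mul, mul_one,
          (Submodule.Quotient.mk_eq_zero _).2 ha, map_zero])
  refine Module.Finite.of_surjective ev ?_
  rintro ⟨e, he⟩
  rw [mem_EJ] at he
  have hker : maximalIdeal A ^ n ≤ LinearMap.ker (LinearMap.toSpanSingleton A E e) := by
    intro a ha
    rw [LinearMap.mem_ker, LinearMap.toSpanSingleton_apply]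
    exact he a ha
  refine ⟨Submodule.liftQ _ (LinearMap.toSpanSingleton A E e) hker, ?_⟩
  apply Subtype.ext
  have h1 : ((ev (Submodule.liftQ _ (LinearMap.toSpanSingleton A E e) hker) :
      EJ (maximalIdeal A ^ n) E) : E) = (1 : A) • e := rfl
  rw [h1, one_smul]

omit [IsNoetherianRing A] in
theorem hJ_pow (n : ℕ) :
    ∀ q : Ideal A, q.IsPrime → maximalIdeal A ^ n ≤ q → q = maximalIdeal A := by
  intro q hq hle
  have h1 : maximalIdeal A ≤ q := Ideal.IsPrime.le_of_pow_le hle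
  exact ((maximalIdeal.isMaximal A).eq_of_le hq.ne_top h1).symm

/-- `A ⧸ m` and `ResidueField A` -/
noncomputable def resEquiv : (A ⧸ maximalIdeal A) ≃ₗ[A] IsLocalRing.ResidueField A where
  toFun x := x
  invFun x := x
  map_add' _ _ := rfl
  map_smul' _ _ := rfl
  left_inv _ := rfl
  right_inv _ := rfl

end EJ

section Main

variable {E : Type u} [AddCommGroup E] [Module A E]
variable [IsLocalRing A] [IsNoetherianRing A] {f : IsLocalRing.ResidueField A →ₗ[A] E}

/-- the five lemma step -/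
theorem bijective_Psi_of_ses (W : Dual.D A) (J : Ideal A) (hinj : Module.Injective A E)
    (c : sM (ModuleCat.of A (EJ J E)) ⟶ W⟦(0 : ℤ)⟧)
    (M : Type u) [AddCommGroup M] [Module A M] (hM : ∀ a ∈ J, ∀ y : M, a • y = 0)
    (N : Submodule A M) (hvan : Van W (-1) (ModuleCat.of A N))
    (h1 : Function.Bijective (Psi c N)) (h3 : Function.Bijective (Psi c (M ⧸ N))) :
    Function.Bijective (Psi c M) := by
  have hS := TorFlat.shortExact_of N.subtype N.mkQ N.injective_subtype N.mkQ_surjective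
    (LinearMap.exact_subtype_mkQ N)
  constructor
  · rw [injective_iff_map_eq_zero]
    intro x hx
    have hx1 : Psi c N (x ∘ₗ N.subtype) = 0 := by
      rw [Psi_comp, hx, comp_zero]
    have hx2 : x ∘ₗ N.subtype = 0 := (injective_iff_map_eq_zero _).1 h1.1 _ hx1
    have hle : N ≤ LinearMap.ker x := fun y hy => by
      have := LinearMap.congr_fun hx2 ⟨y, hy⟩
      exact this
    have hx3 : x = N.liftQ x hle ∘ₗ N.mkQ := (Submodule.liftQ_mkQ N x hle).symm
    have hx4 : (singleFunctor (ModuleCat.{u} A) 0).map (ModuleCat.ofHom N.mkQ) ≫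
        Psi c (M ⧸ N) (N.liftQ x hle) = 0 := by
      rw [← Psi_comp, ← hx3, hx]
    have hx5 : Psi c (M ⧸ N) (N.liftQ x hle) = 0 :=
      eq_zero_of_comp_g hS W (-1) 0 (by norm_num) hvan _ hx4
    have hx6 : N.liftQ x hle = 0 := (injective_iff_map_eq_zero _).1 h3.1 _ hx5
    rw [hx3, hx6, LinearMap.zero_comp]
  · intro t
    obtain ⟨x', hx'⟩ := h1.2 ((singleFunctor (ModuleCat.{u} A) 0).map (ModuleCat.ofHom N.subtype) ≫ t)
    -- extend `x'` to `M`
    haveI := hinj
    obtain ⟨x₀, hx₀⟩ := Module.Injective.extension_property A E N M N.subtype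
      N.injective_subtype ((EJ J E).subtype ∘ₗ x')
    let x : M →ₗ[A] EJ J E := toEJ J hM x₀
    have hxx' : x ∘ₗ N.subtype = x' := by
      ext y
      have := LinearMap.congr_fun hx₀ y
      exact this
    have h0 : (singleFunctor (ModuleCat.{u} A) 0).map (ModuleCat.ofHom N.subtype) ≫
        (t - Psi c M x) = 0 := by
      rw [Preadditive.comp_sub, ← Psi_comp, hxx', hx', sub_self]
    obtain ⟨s, hs⟩ := exists_of_comp_f hS _ (t - Psi c M x) h0
    obtain ⟨y, hy⟩ := h3.2 s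
    refine ⟨x + y ∘ₗ N.mkQ, ?_⟩
    rw [map_add, Psi_comp, hy]
    have hs' : t - Psi c M x = (singleFunctor (ModuleCat.{u} A) 0).map (ModuleCat.ofHom N.mkQ) ≫ s :=
      hs
    rw [← hs']
    abel

theorem bijective_Psi (W : Dual.D A)
    (hW : ∀ i : ℤ, i ≠ 0 → Van W i (ModuleCat.of A (A ⧸ maximalIdeal A)))
    (hsimple : IsSimpleModule A (sM (ModuleCat.of A (A ⧸ maximalIdeal A)) ⟶ W⟦(0 : ℤ)⟧))
    (hf : InjHull.IsInjectiveHull f) (n : ℕ) (hn : n ≠ 0) :
    ∃ c : sM (ModuleCat.of A (EJ (maximalIdeal A ^ n) E)) ⟶ W⟦(0 : ℤ)⟧,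
      ∀ (N : Type u) [AddCommGroup N] [Module A N], IsFiniteLength A N →
        (∀ a ∈ maximalIdeal A ^ n, ∀ y : N, a • y = 0) → Function.Bijective (Psi c N) := by
  classical
  have hJ := hJ_pow (A := A) n
  haveI hκs : IsSimpleModule A (A ⧸ maximalIdeal A) :=
    isSimpleModule_iff_quot_maximal.mpr ⟨maximalIdeal A, inferInstance, ⟨LinearEquiv.refl A _⟩⟩
  have hκJ : ∀ a ∈ maximalIdeal A ^ n, ∀ y : A ⧸ maximalIdeal A, a • y = 0 := by
    intro a ha y
    obtain ⟨y, rfl⟩ := Submodule.Quotient.mk_surjective _ y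
    rw [← Submodule.Quotient.mk_smul, Submodule.Quotient.mk_eq_zero]
    have ha' : a ∈ maximalIdeal A := Ideal.pow_le_self hn ha
    exact Ideal.mul_mem_right _ _ ha'
  let f' : (A ⧸ maximalIdeal A) →ₗ[A] E := f ∘ₗ resEquiv.toLinearMap
  have hf'inj : Function.Injective f' := hf.injective.comp resEquiv.injective
  let ι : (A ⧸ maximalIdeal A) →ₗ[A] EJ (maximalIdeal A ^ n) E := toEJ _ hκJ f'
  have hιinj : Function.Injective ι := fun x y h => hf'inj (congrArg Subtype.val h)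
  have hE'tors : Tors (maximalIdeal A ^ n) (EJ (maximalIdeal A ^ n) E) :=
    ⟨finite_EJ hf n, fun a ha y => smul_EJ _ a ha y⟩
  haveI := hsimple
  haveI := IsSimpleModule.nontrivial A (sM (ModuleCat.of A (A ⧸ maximalIdeal A)) ⟶ W⟦(0 : ℤ)⟧)
  obtain ⟨τ₀, hτ₀⟩ := exists_ne (0 : sM (ModuleCat.of A (A ⧸ maximalIdeal A)) ⟶ W⟦(0 : ℤ)⟧)
  have hS := TorFlat.shortExact_of ι (LinearMap.range ι).mkQ hιinj
    (Submodule.mkQ_surjective _) ι.exact_map_mkQ_range
  have hQ : Tors (maximalIdeal A ^ n) (EJ (maximalIdeal A ^ n) E ⧸ LinearMap.range ι) := by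
    haveI := hE'tors.1
    refine ⟨inferInstance, fun c hc y => ?_⟩
    obtain ⟨y', rfl⟩ := Submodule.mkQ_surjective _ y
    rw [← map_smul, hE'tors.2 c hc y', map_zero]
  have h3 : Van W 1 (ModuleCat.of A (EJ (maximalIdeal A ^ n) E ⧸ LinearMap.range ι)) :=
    van_of_tors (maximalIdeal A) _ hJ W 1 (hW 1 one_ne_zero) _ hQ
  obtain ⟨c, hc⟩ := exists_lift hS W 0 1 rfl h3 τ₀
  refine ⟨c, ?_⟩
  have hinj : Module.Injective A E := hf.isInjective
  -- the residue field
  have hΨκ : Function.Bijective (Psi c (A ⧸ maximalIdeal A)) := by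
    haveI : IsSimpleModule A ((A ⧸ maximalIdeal A) →ₗ[A] E) :=
      Groth.Agent.H2.Matlis.simple_dual hf (A ⧸ maximalIdeal A)
    haveI : IsSimpleModule A ((A ⧸ maximalIdeal A) →ₗ[A] EJ (maximalIdeal A ^ n) E) :=
      IsSimpleModule.congr (homEJEquiv _ hκJ)
    apply LinearMap.bijective_of_ne_zero
    intro h0
    apply hτ₀
    rw [hc]
    have := LinearMap.congr_fun h0 ι
    exact this
  -- simple modules
  have hsimpleCase : ∀ (S : Type u) [AddCommGroup S] [Module A S], IsSimpleModule A S →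
      Function.Bijective (Psi c S) := by
    intro S _ _ hS
    obtain ⟨𝔫, h𝔫, ⟨e⟩⟩ := isSimpleModule_iff_quot_maximal.mp hS
    have h𝔫' : 𝔫 = maximalIdeal A := IsLocalRing.eq_maximalIdeal h𝔫
    subst h𝔫'
    have hee : e.symm.toLinearMap ∘ₗ e.toLinearMap = LinearMap.id :=
      LinearMap.ext fun x => e.symm_apply_apply x
    have hee' : e.toLinearMap ∘ₗ e.symm.toLinearMap = LinearMap.id :=
      LinearMap.ext fun x => e.apply_symm_apply x
    constructor
    · rw [injective_iff_map_eq_zero]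
      intro g hg
      have h1 : Psi c (A ⧸ maximalIdeal A) (g ∘ₗ e.symm.toLinearMap) = 0 := by
        rw [Psi_comp, hg, comp_zero]
      have h2 : g ∘ₗ e.symm.toLinearMap = 0 := (injective_iff_map_eq_zero _).1 hΨκ.1 _ h1
      have h3 : g = (g ∘ₗ e.symm.toLinearMap) ∘ₗ e.toLinearMap := by
        rw [LinearMap.comp_assoc, hee, LinearMap.comp_id]
      rw [h3, h2, LinearMap.zero_comp]
    · intro t
      obtain ⟨g', hg'⟩ := hΨκ.2
        ((singleFunctor (ModuleCat.{u} A) 0).map (ModuleCat.ofHom e.symm.toLinearMap) ≫ t)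
      refine ⟨g' ∘ₗ e.toLinearMap, ?_⟩
      rw [Psi_comp, hg', ← Category.assoc, ← Functor.map_comp, ← ModuleCat.ofHom_comp, hee,
        ModuleCat.ofHom_id, CategoryTheory.Functor.map_id, Category.id_comp]
  intro N _ _ hN
  induction hN with
  | of_subsingleton =>
    rename_i M _ _ _
    intro _
    have hz : IsZero (sM (ModuleCat.of A M)) :=
      (singleFunctor (ModuleCat.{u} A) 0).map_isZero (ModuleCat.isZero_of_subsingleton _)
    constructor
    · intro g g' _
      exact LinearMap.ext fun y => by rw [Subsingleton.elim y 0, map_zero, map_zero]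
    · intro t
      exact ⟨0, hz.eq_of_src _ _⟩
  | of_simple_quotient hN' ih =>
    rename_i M _ _ N' hsimpleQ
    intro hM
    have hN'J : ∀ a ∈ maximalIdeal A ^ n, ∀ y : N', a • y = 0 := fun a ha y =>
      Subtype.ext (hM a ha y.1)
    have hN'tors : Tors (maximalIdeal A ^ n) N' := by
      refine ⟨?_, hN'J⟩
      obtain ⟨h1, _⟩ := isFiniteLength_iff_isNoetherian_isArtinian.1 hN'
      infer_instance
    have hvan : Van W (-1) (ModuleCat.of A N') :=
      van_of_tors (maximalIdeal A) _ hJ W (-1) (hW (-1) (by norm_num)) _ hN'tors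
    exact bijective_Psi_of_ses W _ hinj c M hM N' hvan (ih hN'J) (hsimpleCase _ hsimpleQ)

/-- `Hom_D(N, W[0]) ≅ Hom_A(N, E)` for finite length `N` -/
theorem exists_equiv (W : Dual.D A)
    (hW : ∀ i : ℤ, i ≠ 0 → Van W i (ModuleCat.of A (A ⧸ maximalIdeal A)))
    (hsimple : IsSimpleModule A (sM (ModuleCat.of A (A ⧸ maximalIdeal A)) ⟶ W⟦(0 : ℤ)⟧))
    (hf : InjHull.IsInjectiveHull f) (N : Type u) [AddCommGroup N] [Module A N]
    (hN : IsFiniteLength A N) :
    Nonempty ((sM (ModuleCat.of A N) ⟶ W⟦(0 : ℤ)⟧) ≃ₗ[A] (N →ₗ[A] E)) := by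
  obtain ⟨n, hn⟩ := exists_pow_kill hN
  have hn' : ∀ a ∈ maximalIdeal A ^ (n + 1), ∀ y : N, a • y = 0 := fun a ha y =>
    hn a (Ideal.pow_le_pow_right (Nat.le_succ n) ha) y
  obtain ⟨c, hc⟩ := bijective_Psi W hW hsimple hf (n + 1) (Nat.succ_ne_zero n)
  exact ⟨(LinearEquiv.ofBijective (Psi c N) (hc N hN hn')).symm ≪≫ₗ homEJEquiv _ hn'⟩

/-- vanishing of `Hom_D(N, W[i])`, `i ≠ 0`, for finite length `N` -/
theorem van_of_isFiniteLength (W : Dual.D A)
    (hW : ∀ i : ℤ, i ≠ 0 → Van W i (ModuleCat.of A (A ⧸ maximalIdeal A)))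
    (N : Type u) [AddCommGroup N] [Module A N]
    (hN : IsFiniteLength A N) (i : ℤ) (hi : i ≠ 0) : Van W i (ModuleCat.of A N) := by
  obtain ⟨n, hn⟩ := exists_pow_kill hN
  have htors : Tors (maximalIdeal A ^ n) N := by
    refine ⟨?_, hn⟩
    obtain ⟨h1, _⟩ := isFiniteLength_iff_isNoetherian_isArtinian.1 hN
    infer_instance
  exact van_of_tors (maximalIdeal A) _ (hJ_pow n) W i (hW i hi) _ htors

end Main

end Groth.Agent.H71.DKF
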