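import Mathlib
import Groth.Prelude.Def_Wider
import Groth.Agent.H71.DK.Fin

/-!
# S1718: a compatible family `c_n : E[m^n][0] ⟶ W[0]` inducing `Hom_A(N, E[m^n]) ≅ Hom_D(N, W[0])`
-/

set_option autoImplicit false
universe u
open CategoryTheory CategoryTheory.Limits DerivedCategory Pretriangulated

namespace Groth.Agent.H71.DKF

attribute [local instance] HasDerivedCategory.standard

open Groth.Agent.H12.DualDepth DerivedCategory.TStructure Groth.Agent.H82 Groth.Agent.H71.DK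
open IsLocalRing

variable {A : Type u} [CommRing A]

section Family

variable {E : Type u} [AddCommGroup E] [Module A E]
variable [IsLocalRing A]

theorem EJ_mono {n m : ℕ} (h : n ≤ m) :
    EJ (maximalIdeal A ^ n) E ≤ EJ (maximalIdeal A ^ m) E := by
  intro e he
  rw [mem_EJ] at he ⊢
  exact fun a ha => he a (Ideal.pow_le_pow_right h ha)

/-- `E[m^n] ⊆ E[m^m]` -/
noncomputable abbrev inclEJ {n m : ℕ} (h : n ≤ m) :
    EJ (maximalIdeal A ^ n) E →ₗ[A] EJ (maximalIdeal A ^ m) E :=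
  Submodule.inclusion (EJ_mono h)

theorem smul_quot_eq_zero (n : ℕ) (hn : n ≠ 0) :
    ∀ a ∈ maximalIdeal A ^ n, ∀ y : A ⧸ maximalIdeal A, a • y = 0 := by
  intro a ha y
  obtain ⟨y, rfl⟩ := Submodule.Quotient.mk_surjective _ y
  rw [← Submodule.Quotient.mk_smul, Submodule.Quotient.mk_eq_zero]
  have ha' : a ∈ maximalIdeal A := Ideal.pow_le_self hn ha
  exact Ideal.mul_mem_right _ _ ha'

/-- `κ → E[m^n]` -/
noncomputable def iotaEJ (f : IsLocalRing.ResidueField A →ₗ[A] E) (n : ℕ) (hn : n ≠ 0) :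
    (A ⧸ maximalIdeal A) →ₗ[A] EJ (maximalIdeal A ^ n) E :=
  toEJ _ (smul_quot_eq_zero n hn) (f ∘ₗ resEquiv.toLinearMap)

theorem inclEJ_comp_iotaEJ (f : IsLocalRing.ResidueField A →ₗ[A] E) {n m : ℕ} (h : n ≤ m)
    (hn : n ≠ 0) (hm : m ≠ 0) :
    inclEJ h ∘ₗ iotaEJ f n hn = iotaEJ f m hm :=
  LinearMap.ext fun _ => Subtype.ext rfl

theorem inclEJ_comp_inclEJ {n m k : ℕ} (h : n ≤ m) (h' : m ≤ k) :
    (inclEJ h' : EJ (maximalIdeal A ^ m) E →ₗ[A] _) ∘ₗ inclEJ h = inclEJ (h.trans h') :=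
  LinearMap.ext fun _ => Subtype.ext rfl

theorem inclEJ_refl (n : ℕ) :
    (inclEJ (le_refl n) : EJ (maximalIdeal A ^ n) E →ₗ[A] _) = LinearMap.id :=
  LinearMap.ext fun _ => Subtype.ext rfl

variable [IsNoetherianRing A] {f : IsLocalRing.ResidueField A →ₗ[A] E}

theorem bijective_Psi_of_ne (W : Dual.D A)
    (hW : ∀ i : ℤ, i ≠ 0 → Van W i (ModuleCat.of A (A ⧸ maximalIdeal A)))
    (hsimple : IsSimpleModule A (sM (ModuleCat.of A (A ⧸ maximalIdeal A)) ⟶ W⟦(0 : ℤ)⟧))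
    (hf : InjHull.IsInjectiveHull f) (n : ℕ) (hn : n ≠ 0)
    (c : sM (ModuleCat.of A (EJ (maximalIdeal A ^ n) E)) ⟶ W⟦(0 : ℤ)⟧)
    (hc : (singleFunctor (ModuleCat.{u} A) 0).map (ModuleCat.ofHom (iotaEJ f n hn)) ≫ c ≠ 0) :
    ∀ (N : Type u) [AddCommGroup N] [Module A N], IsFiniteLength A N →
      (∀ a ∈ maximalIdeal A ^ n, ∀ y : N, a • y = 0) → Function.Bijective (Psi c N) := by
  classical
  have hJ := hJ_pow (A := A) n
  haveI hκs : IsSimpleModule A (A ⧸ maximalIdeal A) :=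
    isSimpleModule_iff_quot_maximal.mpr ⟨maximalIdeal A, inferInstance, ⟨LinearEquiv.refl A _⟩⟩
  have hκJ := smul_quot_eq_zero (A := A) n hn
  haveI := hsimple
  have hinj : Module.Injective A E := hf.isInjective
  -- the residue field
  have hΨκ : Function.Bijective (Psi c (A ⧸ maximalIdeal A)) := by
    haveI : IsSimpleModule A ((A ⧸ maximalIdeal A) →ₗ[A] E) :=
      Groth.Agent.H2.Matlis.simple_dual hf (A ⧸ maximalIdeal A)
    haveI : IsSimpleModule A ((A ⧸ maximalIdeal A) →ₗ[A] EJ (maximalIdeal A ^ n) E) :=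
      IsSimpleModule.congr (homEJEquiv _ hκJ)
    apply LinearMap.bijective_of_ne_zero
    intro h0
    apply hc
    have := LinearMap.congr_fun h0 (iotaEJ f n hn)
    exact this
  -- simple modules
  have hsimpleCase : ∀ (S : Type u) [AddCommGroup S] [Module A S], IsSimpleModule A S →
      Function.Bijective (Psi c S) := by
    intro S _ _ hS
    obtain ⟨𝔫, h𝔫, ⟨e⟩⟩ := isSimpleModule_iff_quot_maximal.mp hS
    have h𝔫' : 𝔫 = maximalIdeal A := IsLocalRing.eq_maximalIdeal h𝔫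
    subst h𝔫'
    have hee : e.symm.toLinearMap ∘ₗ e.toLinearMap = LinearMap.id :=
      LinearMap.ext fun x => e.symm_apply_apply x
    constructor
    · rw [injective_iff_map_eq_zero]
      intro g hg
      have h1 : Psi c (A ⧸ maximalIdeal A) (g ∘ₗ e.symm.toLinearMap) = 0 := by
        rw [Psi_comp, hg, comp_zero]
      have h2 : g ∘ₗ e.symm.toLinearMap = 0 := (injective_iff_map_eq_zero _).1 hΨκ.1 _ h1
      have h3 : g = (g ∘ₗ e.symm.toLinearMap) ∘ₗ e.toLinearMap := by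
        rw [LinearMap.comp_assoc, hee, LinearMap.comp_id]
      rw [h3, h2, LinearMap.zero_comp]
    · intro t
      obtain ⟨g', hg'⟩ := hΨκ.2
        ((singleFunctor (ModuleCat.{u} A) 0).map (ModuleCat.ofHom e.symm.toLinearMap) ≫ t)
      refine ⟨g' ∘ₗ e.toLinearMap, ?_⟩
      rw [Psi_comp, hg', ← Category.assoc, ← Functor.map_comp, ← ModuleCat.ofHom_comp, hee,
        ModuleCat.ofHom_id, CategoryTheory.Functor.map_id, Category.id_comp]
  intro N _ _ hN
  induction hN with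
  | of_subsingleton =>
    rename_i M _ _ _
    intro _
    have hz : IsZero (sM (ModuleCat.of A M)) :=
      (singleFunctor (ModuleCat.{u} A) 0).map_isZero (ModuleCat.isZero_of_subsingleton _)
    constructor
    · intro g g' _
      exact LinearMap.ext fun y => by rw [Subsingleton.elim y 0, map_zero, map_zero]
    · intro t
      exact ⟨0, hz.eq_of_src _ _⟩
  | of_simple_quotient hN' ih =>
    rename_i M _ _ N' hsimpleQ
    intro hM
    have hN'J : ∀ a ∈ maximalIdeal A ^ n, ∀ y : N', a • y = 0 := fun a ha y =>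
      Subtype.ext (hM a ha y.1)
    have hN'tors : Tors (maximalIdeal A ^ n) N' := by
      refine ⟨?_, hN'J⟩
      obtain ⟨h1, _⟩ := isFiniteLength_iff_isNoetherian_isArtinian.1 hN'
      infer_instance
    have hvan : Van W (-1) (ModuleCat.of A N') :=
      van_of_tors (maximalIdeal A) _ hJ W (-1) (hW (-1) (by norm_num)) _ hN'tors
    exact bijective_Psi_of_ses W _ hinj c M hM N' hvan (ih hN'J) (hsimpleCase _ hsimpleQ)

theorem tors_EJ (hf : InjHull.IsInjectiveHull f) (n : ℕ) :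
    Tors (maximalIdeal A ^ n) (EJ (maximalIdeal A ^ n) E) :=
  ⟨finite_EJ hf n, fun a ha y => smul_EJ _ a ha y⟩

/-- lifting along `E[m^n] ⊆ E[m^(n+1)]` -/
theorem lift_step (W : Dual.D A) (hW1 : Van W 1 (ModuleCat.of A (A ⧸ maximalIdeal A)))
    (hf : InjHull.IsInjectiveHull f) (n : ℕ)
    (c : sM (ModuleCat.of A (EJ (maximalIdeal A ^ n) E)) ⟶ W⟦(0 : ℤ)⟧) :
    ∃ c' : sM (ModuleCat.of A (EJ (maximalIdeal A ^ (n + 1)) E)) ⟶ W⟦(0 : ℤ)⟧,
      c = (singleFunctor (ModuleCat.{u} A) 0).map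
        (ModuleCat.ofHom (inclEJ (E := E) (Nat.le_succ n))) ≫ c' := by
  have hS := TorFlat.shortExact_of (inclEJ (A := A) (E := E) (Nat.le_succ n))
    (LinearMap.range (inclEJ (A := A) (E := E) (Nat.le_succ n))).mkQ
    (Submodule.inclusion_injective _)
    (Submodule.mkQ_surjective _) (LinearMap.exact_map_mkQ_range _)
  have hT := tors_EJ hf (n + 1)
  have hQ : Tors (maximalIdeal A ^ (n + 1)) (EJ (maximalIdeal A ^ (n + 1)) E ⧸
      LinearMap.range (inclEJ (A := A) (E := E) (Nat.le_succ n))) := by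
    haveI := hT.1
    refine ⟨inferInstance, fun c hc y => ?_⟩
    obtain ⟨y', rfl⟩ := Submodule.mkQ_surjective _ y
    rw [← map_smul, hT.2 c hc y', map_zero]
  have h3 := van_of_tors (maximalIdeal A) _ (hJ_pow (n + 1)) W 1 hW1 _ hQ
  exact exists_lift hS W 0 1 rfl h3 c

/-- lifting along `κ ⊆ E[m]` -/
theorem lift_iota (W : Dual.D A) (hW1 : Van W 1 (ModuleCat.of A (A ⧸ maximalIdeal A)))
    (hf : InjHull.IsInjectiveHull f)
    (τ₀ : sM (ModuleCat.of A (A ⧸ maximalIdeal A)) ⟶ W⟦(0 : ℤ)⟧) :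
    ∃ c' : sM (ModuleCat.of A (EJ (maximalIdeal A ^ 1) E)) ⟶ W⟦(0 : ℤ)⟧,
      τ₀ = (singleFunctor (ModuleCat.{u} A) 0).map
        (ModuleCat.ofHom (iotaEJ f 1 one_ne_zero)) ≫ c' := by
  have hιinj : Function.Injective (iotaEJ f 1 one_ne_zero) := fun x y h =>
    (hf.injective.comp resEquiv.injective) (congrArg Subtype.val h)
  have hS := TorFlat.shortExact_of (iotaEJ f 1 one_ne_zero)
    (LinearMap.range (iotaEJ f 1 one_ne_zero)).mkQ hιinj
    (Submodule.mkQ_surjective _) (LinearMap.exact_map_mkQ_range _)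
  have hT := tors_EJ hf 1
  have hQ : Tors (maximalIdeal A ^ 1) (EJ (maximalIdeal A ^ 1) E ⧸
      LinearMap.range (iotaEJ f 1 one_ne_zero)) := by
    haveI := hT.1
    refine ⟨inferInstance, fun c hc y => ?_⟩
    obtain ⟨y', rfl⟩ := Submodule.mkQ_surjective _ y
    rw [← map_smul, hT.2 c hc y', map_zero]
  have h3 := van_of_tors (maximalIdeal A) _ (hJ_pow 1) W 1 hW1 _ hQ
  exact exists_lift hS W 0 1 rfl h3 τ₀

/-- the compatible family -/
noncomputable def cfam (W : Dual.D A) (hW1 : Van W 1 (ModuleCat.of A (A ⧸ maximalIdeal A)))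
    (hf : InjHull.IsInjectiveHull f)
    (c₁ : sM (ModuleCat.of A (EJ (maximalIdeal A ^ 1) E)) ⟶ W⟦(0 : ℤ)⟧) :
    (n : ℕ) → (sM (ModuleCat.of A (EJ (maximalIdeal A ^ n) E)) ⟶ W⟦(0 : ℤ)⟧)
  | 0 => 0
  | 1 => c₁
  | (n + 2) => Classical.choose (lift_step W hW1 hf (n + 1) (cfam W hW1 hf c₁ (n + 1)))

theorem cfam_one (W : Dual.D A) (hW1 : Van W 1 (ModuleCat.of A (A ⧸ maximalIdeal A)))
    (hf : InjHull.IsInjectiveHull f)
    (c₁ : sM (ModuleCat.of A (EJ (maximalIdeal A ^ 1) E)) ⟶ W⟦(0 : ℤ)⟧) :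
    cfam W hW1 hf c₁ 1 = c₁ := rfl

omit [IsNoetherianRing A] in
theorem isZero_EJ_zero : IsZero (sM (ModuleCat.of A (EJ (maximalIdeal A ^ 0) E))) := by
  haveI : Subsingleton (EJ (maximalIdeal A ^ 0) E) := by
    refine ⟨fun x y => ?_⟩
    have h : ∀ z : EJ (maximalIdeal A ^ 0) E, z = 0 := fun z => by
      have := smul_EJ (maximalIdeal A ^ 0) (1 : A) (by rw [pow_zero, Ideal.one_eq_top]; trivial) z
      rwa [one_smul] at this
    rw [h x, h y]
  exact (singleFunctor (ModuleCat.{u} A) 0).map_isZero (ModuleCat.isZero_of_subsingleton _)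

theorem cfam_succ (W : Dual.D A) (hW1 : Van W 1 (ModuleCat.of A (A ⧸ maximalIdeal A)))
    (hf : InjHull.IsInjectiveHull f)
    (c₁ : sM (ModuleCat.of A (EJ (maximalIdeal A ^ 1) E)) ⟶ W⟦(0 : ℤ)⟧) (n : ℕ) :
    cfam W hW1 hf c₁ n = (singleFunctor (ModuleCat.{u} A) 0).map
      (ModuleCat.ofHom (inclEJ (E := E) (Nat.le_succ n))) ≫ cfam W hW1 hf c₁ (n + 1) := by
  match n with
  | 0 => exact isZero_EJ_zero.eq_of_src _ _
  | (k + 1) =>
    exact Classical.choose_spec (lift_step W hW1 hf (k + 1) (cfam W hW1 hf c₁ (k + 1)))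

theorem cfam_le (W : Dual.D A) (hW1 : Van W 1 (ModuleCat.of A (A ⧸ maximalIdeal A)))
    (hf : InjHull.IsInjectiveHull f)
    (c₁ : sM (ModuleCat.of A (EJ (maximalIdeal A ^ 1) E)) ⟶ W⟦(0 : ℤ)⟧) {n m : ℕ} (h : n ≤ m) :
    cfam W hW1 hf c₁ n = (singleFunctor (ModuleCat.{u} A) 0).map
      (ModuleCat.ofHom (inclEJ (E := E) h)) ≫ cfam W hW1 hf c₁ m := by
  induction m, h using Nat.le_induction with
  | base =>
    rw [inclEJ_refl, ModuleCat.ofHom_id, CategoryTheory.Functor.map_id, Category.id_comp]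
  | succ m hnm ih =>
    rw [ih, cfam_succ W hW1 hf c₁ m, ← Category.assoc, ← Functor.map_comp,
      ← ModuleCat.ofHom_comp, inclEJ_comp_inclEJ]

/-- existence of the compatible family of comparison isomorphisms -/
theorem exists_family (W : Dual.D A)
    (hW : ∀ i : ℤ, i ≠ 0 → Van W i (ModuleCat.of A (A ⧸ maximalIdeal A)))
    (hsimple : IsSimpleModule A (sM (ModuleCat.of A (A ⧸ maximalIdeal A)) ⟶ W⟦(0 : ℤ)⟧))
    (hf : InjHull.IsInjectiveHull f) :
    ∃ c : (n : ℕ) → (sM (ModuleCat.of A (EJ (maximalIdeal A ^ n) E)) ⟶ W⟦(0 : ℤ)⟧),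
      (∀ (n m : ℕ) (h : n ≤ m), c n = (singleFunctor (ModuleCat.{u} A) 0).map
        (ModuleCat.ofHom (inclEJ (E := E) h)) ≫ c m) ∧
      (∀ (n : ℕ) (N : Type u) [AddCommGroup N] [Module A N], IsFiniteLength A N →
        (∀ a ∈ maximalIdeal A ^ n, ∀ y : N, a • y = 0) → Function.Bijective (Psi (c n) N)) := by
  haveI := hsimple
  haveI := IsSimpleModule.nontrivial A (sM (ModuleCat.of A (A ⧸ maximalIdeal A)) ⟶ W⟦(0 : ℤ)⟧)
  obtain ⟨τ₀, hτ₀⟩ := exists_ne (0 : sM (ModuleCat.of A (A ⧸ maximalIdeal A)) ⟶ W⟦(0 : ℤ)⟧)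
  have hW1 := hW 1 one_ne_zero
  obtain ⟨c₁, hc₁⟩ := lift_iota W hW1 hf τ₀
  refine ⟨cfam W hW1 hf c₁, fun n m h => cfam_le W hW1 hf c₁ h, ?_⟩
  intro n N _ _ hN hNJ
  rcases Nat.eq_zero_or_pos n with rfl | hpos
  · -- `N` is zero
    haveI : Subsingleton N := by
      refine ⟨fun x y => ?_⟩
      have h : ∀ z : N, z = 0 := fun z => by
        have := hNJ 1 (by rw [pow_zero, Ideal.one_eq_top]; trivial) z
        rwa [one_smul] at this
      rw [h x, h y]
    have hz : IsZero (sM (ModuleCat.of A N)) :=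
      (singleFunctor (ModuleCat.{u} A) 0).map_isZero (ModuleCat.isZero_of_subsingleton _)
    constructor
    · intro g g' _
      exact LinearMap.ext fun y => by rw [Subsingleton.elim y 0, map_zero, map_zero]
    · intro t
      exact ⟨0, hz.eq_of_src _ _⟩
  · have hn : n ≠ 0 := Nat.pos_iff_ne_zero.1 hpos
    refine bijective_Psi_of_ne W hW hsimple hf n hn _ ?_ N hN hNJ
    have h1 : (1 : ℕ) ≤ n := hpos
    rw [← inclEJ_comp_iotaEJ f h1 one_ne_zero hn, ModuleCat.ofHom_comp, Functor.map_comp,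
      Category.assoc, ← cfam_le W hW1 hf c₁ h1, cfam_one, ← hc₁]
    exact hτ₀

end Family

end Groth.Agent.H71.DKF
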