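import Mathlib
import Groth.Prelude.Def_Wider
import Groth.Prelude.Def_DualLC
import Groth.Agent.H71.DK.Fin2
import Groth.Agent.H12.RGamHDI_A
import Groth.Agent.S0311

/-!
# S1718: `colim_n Hom_D(A/m^n, W[0]) ≅ E`
-/

set_option autoImplicit false
universe u
open CategoryTheory CategoryTheory.Limits DerivedCategory Pretriangulated Opposite

namespace Groth.Agent.H71.DKF

attribute [local instance] HasDerivedCategory.standard

open Groth.Agent.H12.DualDepth DerivedCategory.TStructure Groth.Agent.H82 Groth.Agent.H71.DK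
open IsLocalRing Groth.Agent.H12.RGamHDI

variable {A : Type u} [CommRing A]

section Elt

variable {X : Type u} [AddCommGroup X] [Module A X]

/-- the map `A/J → X`, `1 ↦ x`, for `x` killed by `J` -/
noncomputable def ofElt (J : Ideal A) (x : X) (hx : ∀ a ∈ J, a • x = 0) : (A ⧸ J) →ₗ[A] X :=
  Submodule.liftQ J (LinearMap.toSpanSingleton A X x) (fun a ha => by
    rw [LinearMap.mem_ker, LinearMap.toSpanSingleton_apply]
    exact hx a ha)

theorem ofElt_mk (J : Ideal A) (x : X) (hx : ∀ a ∈ J, a • x = 0) (a : A) :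
    ofElt J x hx (Submodule.Quotient.mk a) = a • x := by
  show LinearMap.toSpanSingleton A X x a = a • x
  rw [LinearMap.toSpanSingleton_apply]

theorem ofElt_one (J : Ideal A) (x : X) (hx : ∀ a ∈ J, a • x = 0) :
    ofElt J x hx (Submodule.Quotient.mk 1) = x := by
  rw [ofElt_mk, one_smul]

theorem ev_injective (J : Ideal A) (g g' : (A ⧸ J) →ₗ[A] X)
    (h : g (Submodule.Quotient.mk 1) = g' (Submodule.Quotient.mk 1)) : g = g' := by
  refine LinearMap.ext fun y => ?_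
  obtain ⟨a, rfl⟩ := Submodule.Quotient.mk_surjective J y
  have h1 : (Submodule.Quotient.mk a : A ⧸ J) = a • Submodule.Quotient.mk 1 := by
    rw [← Submodule.Quotient.mk_smul, smul_eq_mul, mul_one]
  rw [h1, map_smul, map_smul, h]

theorem smul_quot_pow (J : Ideal A) : ∀ a ∈ J, ∀ y : A ⧸ J, a • y = 0 := by
  intro a ha y
  obtain ⟨b, rfl⟩ := Submodule.Quotient.mk_surjective J y
  rw [← Submodule.Quotient.mk_smul, Submodule.Quotient.mk_eq_zero, smul_eq_mul]
  exact Ideal.mul_mem_right _ _ ha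

end Elt

section Colim

variable {E : Type u} [AddCommGroup E] [Module A E]
variable [IsLocalRing A] [IsNoetherianRing A] {f : IsLocalRing.ResidueField A →ₗ[A] E}

/-- the transition map `A/m^m → A/m^n` -/
noncomputable abbrev piQ {n m : ℕ} (h : n ≤ m) :
    (A ⧸ maximalIdeal A ^ m) →ₗ[A] (A ⧸ maximalIdeal A ^ n) :=
  Submodule.mapQ (maximalIdeal A ^ m) (maximalIdeal A ^ n) LinearMap.id
    (Ideal.pow_le_pow_right h)

/-- the cocone maps, retyped -/
noncomputable def ι' (Y : Dual.D A) (n : ℕ) :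
    (sM (ModuleCat.of A (A ⧸ maximalIdeal A ^ n)) ⟶ Y) →ₗ[A] HYI (maximalIdeal A) Y :=
  ι (maximalIdeal A) Y n

omit [IsNoetherianRing A] in
theorem ι'_res (Y : Dual.D A) {n m : ℕ} (h : n ≤ m)
    (y : sM (ModuleCat.of A (A ⧸ maximalIdeal A ^ n)) ⟶ Y) :
    ι' Y m ((singleFunctor (ModuleCat.{u} A) 0).map (ModuleCat.ofHom (piQ h)) ≫ y) = ι' Y n y :=
  ι_res (maximalIdeal A) Y h y

omit [IsNoetherianRing A] in
theorem exists_rep' (Y : Dual.D A) (x : HYI (maximalIdeal A) Y) :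
    ∃ (n : ℕ) (y : sM (ModuleCat.of A (A ⧸ maximalIdeal A ^ n)) ⟶ Y), ι' Y n y = x :=
  exists_rep (maximalIdeal A) Y x

omit [IsNoetherianRing A] in
theorem exists_res_eq_zero' (Y : Dual.D A) (n : ℕ)
    (y : sM (ModuleCat.of A (A ⧸ maximalIdeal A ^ n)) ⟶ Y) (hy : ι' Y n y = 0) :
    ∃ (m : ℕ) (h : n ≤ m),
      (singleFunctor (ModuleCat.{u} A) 0).map (ModuleCat.ofHom (piQ h)) ≫ y = 0 :=
  exists_res_eq_zero (maximalIdeal A) Y n y hy

theorem exists_equiv_HYI (W : Dual.D A)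
    (hW : ∀ i : ℤ, i ≠ 0 → Van W i (ModuleCat.of A (A ⧸ maximalIdeal A)))
    (hsimple : IsSimpleModule A (sM (ModuleCat.of A (A ⧸ maximalIdeal A)) ⟶ W⟦(0 : ℤ)⟧))
    (hf : InjHull.IsInjectiveHull f) :
    Nonempty (HYI (maximalIdeal A) (W⟦(0 : ℤ)⟧) ≃ₗ[A] E) := by
  classical
  obtain ⟨c, hcompat, hbij⟩ := exists_family W hW hsimple hf
  have hpt := Groth.Agent.S0311.result A E f hf
  have hfl : ∀ n : ℕ, IsFiniteLength A (A ⧸ maximalIdeal A ^ n) :=
    fun n => Groth.Agent.H2.Matlis.isFiniteLength_quotient_pow A n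
  have hbijn : ∀ n : ℕ, Function.Bijective (Psi (c n) (A ⧸ maximalIdeal A ^ n)) :=
    fun n => hbij n _ (hfl n) (smul_quot_pow _)
  -- the elements `y n e`
  let y : ∀ n : ℕ, EJ (maximalIdeal A ^ n) E →
      (sM (ModuleCat.of A (A ⧸ maximalIdeal A ^ n)) ⟶ W⟦(0 : ℤ)⟧) :=
    fun n e => Psi (c n) (A ⧸ maximalIdeal A ^ n)
      (ofElt (maximalIdeal A ^ n) e (fun a ha => smul_EJ _ a ha e))
  have hy_add : ∀ (n : ℕ) (e e' : EJ (maximalIdeal A ^ n) E), y n (e + e') = y n e + y n e' := by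
    intro n e e'
    show Psi (c n) _ _ = Psi (c n) _ _ + Psi (c n) _ _
    rw [← map_add]
    congr 1
    apply ev_injective
    rw [LinearMap.add_apply, ofElt_one, ofElt_one, ofElt_one]
  have hy_smul : ∀ (n : ℕ) (b : A) (e : EJ (maximalIdeal A ^ n) E), y n (b • e) = b • y n e := by
    intro n b e
    show Psi (c n) _ _ = b • Psi (c n) _ _
    rw [← map_smul]
    congr 1
    apply ev_injective
    rw [LinearMap.smul_apply, ofElt_one, ofElt_one]
  have hy_compat : ∀ (n m : ℕ) (h : n ≤ m) (e : EJ (maximalIdeal A ^ n) E),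
      (singleFunctor (ModuleCat.{u} A) 0).map (ModuleCat.ofHom (piQ h)) ≫ y n e =
        y m (inclEJ h e) := by
    intro n m h e
    have h1 : ofElt (maximalIdeal A ^ m) (inclEJ h e) (fun a ha => smul_EJ _ a ha _) =
        (inclEJ h ∘ₗ ofElt (maximalIdeal A ^ n) e (fun a ha => smul_EJ _ a ha e)) ∘ₗ piQ h := by
      apply ev_injective
      rw [ofElt_one, LinearMap.comp_apply, LinearMap.comp_apply, Submodule.mapQ_apply,
        LinearMap.id_apply, ofElt_one]
    show _ ≫ Psi (c n) _ _ = Psi (c m) _ _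
    rw [h1, Psi_comp, Psi_apply, Psi_apply, ModuleCat.ofHom_comp, Functor.map_comp,
      Category.assoc, ← hcompat n m h]
  -- the map `θ n`
  let θ : ∀ n : ℕ, EJ (maximalIdeal A ^ n) E → HYI (maximalIdeal A) (W⟦(0 : ℤ)⟧) :=
    fun n e => ι' (W⟦(0 : ℤ)⟧) n (y n e)
  have hθ_compat : ∀ (n m : ℕ) (h : n ≤ m) (e : EJ (maximalIdeal A ^ n) E),
      θ m (inclEJ h e) = θ n e := by
    intro n m h e
    show ι' _ m (y m (inclEJ h e)) = ι' _ n (y n e)
    rw [← hy_compat n m h e, ι'_res]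
  -- the global map
  have hmemE : ∀ e : E, ∃ n : ℕ, e ∈ EJ (maximalIdeal A ^ n) E := fun e => by
    obtain ⟨n, hn⟩ := hpt e
    exact ⟨n, (mem_EJ _ e).2 hn⟩
  let nE : E → ℕ := fun e => Classical.choose (hmemE e)
  have hnE : ∀ e : E, e ∈ EJ (maximalIdeal A ^ nE e) E := fun e => Classical.choose_spec (hmemE e)
  let Θ : E → HYI (maximalIdeal A) (W⟦(0 : ℤ)⟧) := fun e => θ (nE e) ⟨e, hnE e⟩
  have hΘ : ∀ (e : E) (n : ℕ) (he : e ∈ EJ (maximalIdeal A ^ n) E), Θ e = θ n ⟨e, he⟩ := by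
    intro e n he
    have h1 := hθ_compat (nE e) (max (nE e) n) (le_max_left _ _) ⟨e, hnE e⟩
    have h2 := hθ_compat n (max (nE e) n) (le_max_right _ _) ⟨e, he⟩
    show θ (nE e) ⟨e, hnE e⟩ = θ n ⟨e, he⟩
    rw [← h1, ← h2]
    rfl
  have hΘ_add : ∀ e e' : E, Θ (e + e') = Θ e + Θ e' := by
    intro e e'
    have he := EJ_mono (E := E) (le_max_left (nE e) (nE e')) (hnE e)
    have he' := EJ_mono (E := E) (le_max_right (nE e) (nE e')) (hnE e')
    rw [hΘ e _ he, hΘ e' _ he', hΘ (e + e') _ (Submodule.add_mem _ he he')]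
    show ι' _ _ (y _ _) = ι' _ _ (y _ _) + ι' _ _ (y _ _)
    rw [← map_add, ← hy_add]
    rfl
  have hΘ_smul : ∀ (b : A) (e : E), Θ (b • e) = b • Θ e := by
    intro b e
    rw [hΘ e _ (hnE e), hΘ (b • e) _ (Submodule.smul_mem _ b (hnE e))]
    show ι' _ _ (y _ _) = b • ι' _ _ (y _ _)
    rw [← map_smul, ← hy_smul]
    rfl
  let Θl : E →ₗ[A] HYI (maximalIdeal A) (W⟦(0 : ℤ)⟧) :=
    { toFun := Θ
      map_add' := hΘ_add
      map_smul' := hΘ_smul }
  have hΘinj : Function.Injective Θl := by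
    rw [injective_iff_map_eq_zero]
    intro e he0
    have he0' : ι' (W⟦(0 : ℤ)⟧) (nE e) (y (nE e) ⟨e, hnE e⟩) = 0 := he0
    obtain ⟨m, h, hm⟩ := exists_res_eq_zero' (W⟦(0 : ℤ)⟧) (nE e) _ he0'
    rw [hy_compat (nE e) m h ⟨e, hnE e⟩] at hm
    have h1 := (injective_iff_map_eq_zero _).1 (hbijn m).1 _ hm
    have h2 := congrArg (fun g => g (Submodule.Quotient.mk 1)) h1
    simp only [ofElt_one, LinearMap.zero_apply] at h2
    exact congrArg Subtype.val h2
  have hΘsurj : Function.Surjective Θl := by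
    intro x
    obtain ⟨n, y₀, rfl⟩ := exists_rep' (W⟦(0 : ℤ)⟧) x
    obtain ⟨g, hg⟩ := (hbijn n).2 y₀
    refine ⟨(g (Submodule.Quotient.mk 1) : EJ (maximalIdeal A ^ n) E).1, ?_⟩
    show Θ _ = _
    rw [hΘ _ n (g (Submodule.Quotient.mk 1)).2]
    show ι' _ n (Psi (c n) _ _) = _
    have h1 : ofElt (maximalIdeal A ^ n) (⟨(g (Submodule.Quotient.mk 1)).1,
        (g (Submodule.Quotient.mk 1)).2⟩ : EJ (maximalIdeal A ^ n) E)
        (fun a ha => smul_EJ _ a ha _) = g := by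
      apply ev_injective
      rw [ofElt_one]
    rw [h1, hg]
  exact ⟨(LinearEquiv.ofBijective Θl ⟨hΘinj, hΘsurj⟩).symm⟩

end Colim

end Groth.Agent.H71.DKF
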