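import Mathlib
import Groth.Prelude.Def_Wider
import Groth.Agent.H12.DualLoc2
import Groth.Agent.S0364

/-!
# S1716: the degrees `j` with `p ∈ Supp Ext^j(M, ω)` over a (non-local) Noetherian ring with a
dualizing complex
-/

set_option autoImplicit false
universe u
open CategoryTheory CategoryTheory.Limits DerivedCategory Pretriangulated

namespace Groth.Agent.H71.DKG

attribute [local instance] HasDerivedCategory.standard

open DerivedCategory.TStructure
open Groth.Agent.H12.DualDepth Groth.Agent.H12.LocHom Groth.Agent.H12.DualLoc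

variable {A : Type u} [CommRing A] [IsNoetherianRing A] (ω : Dual.D A)

theorem global_package (hω : Dual.IsDualizing A ω)
    (M : Type u) [AddCommGroup M] [Module A M] [Module.Finite A M] (p : PrimeSpectrum A)
    [hnt : Nontrivial (LocalizedModule p.asIdeal.primeCompl M)] :
    ∃ (s : ℤ) (e n : ℕ),
      Module.supportDim (Localization.AtPrime p.asIdeal)
        (LocalizedModule p.asIdeal.primeCompl M) = (e : WithBot ℕ∞) ∧
      LocCoh.depth (Localization.AtPrime p.asIdeal)
        (LocalizedModule p.asIdeal.primeCompl M) = n ∧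
      (∀ j : ℤ, p ∈ Module.support A (Dual.inD A M ⟶ ω⟦j⟧) →
        -(e : ℤ) ≤ j - s ∧ j - s ≤ -(n : ℤ)) ∧
      p ∈ Module.support A (Dual.inD A M ⟶ ω⟦(s - n)⟧) ∧
      p ∈ Module.support A (Dual.inD A M ⟶ ω⟦(s - e)⟧) := by
  classical
  haveI : DRing.HasLBaseChange (algebraMap A (Localization p.asIdeal.primeCompl)) :=
    H35.HasLBC.hasLBaseChange _
  have hωB := isDualizing_L p.asIdeal.primeCompl ω hω
  haveI : IsNoetherianRing (Localization.AtPrime p.asIdeal) := hωB.isNoetherianRing
  obtain ⟨s, hs1, -⟩ := Groth.Agent.S0364.result (Localization.AtPrime p.asIdeal) _ hωB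
    (IsLocalRing.maximalIdeal (Localization.AtPrime p.asIdeal))
  have hW := isDualizing_shift _ hωB s
  have hnW : Dual.IsNormalized (Localization.AtPrime p.asIdeal)
      (((DRing.LBaseChange (algebraMap A (Localization p.asIdeal.primeCompl))).obj ω)⟦s⟧) := by
    intro i hi
    rw [← van_iff_subsingleton]
    refine van_of_iso residueIso.symm ?_
    rw [van_shift_iff _ s i (s + i) rfl, van_iff_subsingleton]
    exact hs1 (s + i) (by omega)
  have hE1 : ∀ k : ℤ, p ∈ Module.support A (Dual.inD A M ⟶ ω⟦k⟧) ↔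
      ¬ Van ((DRing.LBaseChange (algebraMap A (Localization p.asIdeal.primeCompl))).obj ω) k
        (ModuleCat.of (Localization.AtPrime p.asIdeal)
          (LocalizedModule p.asIdeal.primeCompl M)) :=
    fun k => mem_support_hom_iff_localized ω hω M p k
  obtain ⟨e, he⟩ : ∃ e : ℕ, Module.supportDim (Localization.AtPrime p.asIdeal)
      (LocalizedModule p.asIdeal.primeCompl M) = (e : WithBot ℕ∞) :=
    exists_nat_of _ (Module.supportDim_ne_bot_of_nontrivial _ _)
      (lt_of_le_of_lt (Module.supportDim_le_ringKrullDim _ _) ringKrullDim_lt_top)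
  have hntH := nontrivial_hom_of_supportDim_eq _ hW hnW
    (LocalizedModule p.asIdeal.primeCompl M) e he
  have hex : ∃ δ : ℕ, ¬ Van
      (((DRing.LBaseChange (algebraMap A (Localization p.asIdeal.primeCompl))).obj ω)⟦s⟧)
      (-(δ : ℤ)) (ModuleCat.of (Localization.AtPrime p.asIdeal)
        (LocalizedModule p.asIdeal.primeCompl M)) :=
    ⟨e, (not_van_iff_nontrivial _ _ _).2 hntH⟩
  obtain ⟨n, hn1, hn2⟩ : ∃ n : ℕ, (¬ Van
      (((DRing.LBaseChange (algebraMap A (Localization p.asIdeal.primeCompl))).obj ω)⟦s⟧)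
      (-(n : ℤ)) (ModuleCat.of (Localization.AtPrime p.asIdeal)
        (LocalizedModule p.asIdeal.primeCompl M))) ∧ ∀ δ : ℕ, δ < n → Van
      (((DRing.LBaseChange (algebraMap A (Localization p.asIdeal.primeCompl))).obj ω)⟦s⟧)
      (-(δ : ℤ)) (ModuleCat.of (Localization.AtPrime p.asIdeal)
        (LocalizedModule p.asIdeal.primeCompl M)) :=
    ⟨Nat.find hex, Nat.find_spec hex, fun δ hδ => not_not.1 (Nat.find_min hex hδ)⟩
  have hdep : LocCoh.depth (Localization.AtPrime p.asIdeal)
      (LocalizedModule p.asIdeal.primeCompl M) = n :=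
    (depth_iff_dualizing _ hW hnW (LocalizedModule p.asIdeal.primeCompl M) n).2
      ⟨fun δ hδ => (van_iff_subsingleton _ _ _).1 (hn2 δ hδ),
        (not_van_iff_nontrivial _ _ _).1 hn1⟩
  refine ⟨s, e, n, he, hdep, ?_, ?_, ?_⟩
  · intro j hj
    have hnv := (hE1 j).1 hj
    constructor
    · by_contra hlt
      apply hnv
      obtain ⟨x, hx⟩ : ∃ x : ℕ, j - s = -(x : ℤ) := ⟨(-(j - s)).toNat, by omega⟩
      have hxe : e < x := by omega
      have h1 := van_of_supportDim_lt _ hW hnW (LocalizedModule p.asIdeal.primeCompl M) x (by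
        rw [he]
        exact natCast_lt_natCast hxe)
      exact (van_shift_iff _ s (-(x : ℤ)) j (by omega) _).1 h1
    · by_contra hlt
      apply hnv
      by_cases hpos : 0 < j - s
      · have h1 := dualizing_hpos _ hW hnW (LocalizedModule p.asIdeal.primeCompl M)
          (j - s) hpos
        exact (van_shift_iff _ s (j - s) j (by omega) _).1 h1
      · obtain ⟨x, hx⟩ : ∃ x : ℕ, j - s = -(x : ℤ) := ⟨(-(j - s)).toNat, by omega⟩
        have h1 := hn2 x (by omega)
        exact (van_shift_iff _ s (-(x : ℤ)) j (by omega) _).1 h1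
  · refine (hE1 _).2 (fun hv => hn1 ?_)
    exact (van_shift_iff _ s (-(n : ℤ)) (s - n) (by omega) _).2 hv
  · refine (hE1 _).2 (fun hv => (not_van_iff_nontrivial _ _ _).2 hntH ?_)
    exact (van_shift_iff _ s (-(e : ℤ)) (s - e) (by omega) _).2 hv

end Groth.Agent.H71.DKG
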