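import Mathlib
import Groth.Prelude.Def_Wider
import Groth.Agent.H71.DK.Glob2
import Groth.Agent.H71.DK.DimF
import Groth.Agent.H46.DimFun
import Groth.Agent.H12.HomSingleRing

/-!
# S18721: the package for `M = A` in terms of the cohomology modules `H^j(ω)` and a dimension
function
-/

set_option autoImplicit false
universe u
open CategoryTheory CategoryTheory.Limits DerivedCategory Pretriangulated

namespace Groth.Agent.H71.DKG

attribute [local instance] HasDerivedCategory.standard

open DerivedCategory.TStructure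
open Groth.Agent.H12.DualDepth Groth.Agent.H12.LocHom Groth.Agent.H12.DualLoc
open Groth.Agent.H46.DimFun

variable {A : Type u} [CommRing A] [IsNoetherianRing A] (ω : Dual.D A)

theorem shiftAt_eq (hω : Dual.IsDualizing A ω) (δ : PrimeSpectrum A → ℤ)
    (h1 : ∀ (p : PrimeSpectrum A) (i : ℤ), NT ω p.asIdeal i ↔ i = -δ p) (p : PrimeSpectrum A) :
    shiftAt ω hω p = -δ p := by
  haveI : DRing.HasLBaseChange (algebraMap A (Localization p.asIdeal.primeCompl)) :=
    H35.HasLBC.hasLBaseChange _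
  have hωB := isDualizing_L p.asIdeal.primeCompl ω hω
  haveI : IsNoetherianRing (Localization.AtPrime p.asIdeal) := hωB.isNoetherianRing
  have hs1 : ∀ i : ℤ, i ≠ shiftAt ω hω p →
      Subsingleton (Dual.inD (Localization.AtPrime p.asIdeal)
        (Localization.AtPrime p.asIdeal ⧸
          IsLocalRing.maximalIdeal (Localization.AtPrime p.asIdeal)) ⟶
        ((DRing.LBaseChange (algebraMap A (Localization p.asIdeal.primeCompl))).obj ω)⟦i⟧) :=
    (Classical.choose_spec (Groth.Agent.S0364.result (Localization.AtPrime p.asIdeal) _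
      (isDualizing_L p.asIdeal.primeCompl ω hω)
      (IsLocalRing.maximalIdeal (Localization.AtPrime p.asIdeal)))).1
  by_contra hne
  have hNT : NT ω p.asIdeal (-δ p) := (h1 p _).2 rfl
  have hnv := (NT_iff ω hω p.asIdeal (-δ p)).1 hNT
  exact hnv ((van_iff_subsingleton _ _ _).2 (hs1 (-δ p) (Ne.symm hne)))

theorem support_hom_eq (j : ℤ) :
    Module.support A (Dual.inD A A ⟶ ω⟦j⟧) = Module.support A (Dual.HD A ω j) := by
  obtain ⟨e⟩ := Groth.Agent.H12.HomSingleRing.nonempty_linearEquiv_Hi ω j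
  exact e.support_eq

theorem ring_package (hω : Dual.IsDualizing A ω) (δ : PrimeSpectrum A → ℤ)
    (h1 : ∀ (p : PrimeSpectrum A) (i : ℤ), NT ω p.asIdeal i ↔ i = -δ p)
    (hcov : ∀ p q : PrimeSpectrum A, p ⋖ q → δ p = δ q + 1)
    (hmax : ∀ m : PrimeSpectrum A, m.asIdeal.IsMaximal → δ m = 0) (n : ℕ)
    (hmin : ∀ q : PrimeSpectrum A, q.asIdeal ∈ minimalPrimes A → δ q = n)
    (p : PrimeSpectrum A) :
    ∃ d : ℕ, LocCoh.depth (Localization.AtPrime p.asIdeal)
        (LocalizedModule p.asIdeal.primeCompl A) = d ∧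
      Module.supportDim (Localization.AtPrime p.asIdeal)
        (LocalizedModule p.asIdeal.primeCompl A) = (((n - δ p).toNat : ℕ) : WithBot ℕ∞) ∧
      (d : ℤ) ≤ n - δ p ∧ 0 ≤ δ p ∧ δ p ≤ n ∧
      (∀ j : ℤ, p ∈ Module.support A (Dual.HD A ω j) → -(n : ℤ) ≤ j ∧ j ≤ -δ p - d) ∧
      p ∈ Module.support A (Dual.HD A ω (-δ p - d)) ∧
      p ∈ Module.support A (Dual.HD A ω (-(n : ℤ))) ∧
      ringKrullDim (A ⧸ p.asIdeal) = (((δ p).toNat : ℕ) : WithBot ℕ∞) := by
  obtain ⟨hδ0, hco⟩ := Groth.Agent.H71.DimF.coheight_eq δ hcov hmax p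
  obtain ⟨hδn, hht⟩ := Groth.Agent.H71.DimF.height_eq δ hcov n hmin p
  haveI : Nontrivial (LocalizedModule p.asIdeal.primeCompl A) := by
    have h : p ∈ Module.support A A := by
      rw [Module.support_of_algebra]
      intro x hx
      have h0 : x = 0 := by
        have : algebraMap A A x = 0 := hx
        simpa using this
      rw [h0]
      exact p.asIdeal.zero_mem
    exact Module.mem_support_iff.1 h
  obtain ⟨e, d, he, hdep, hbd, hm1, hm2⟩ := global_package' ω hω A p
  have hs := shiftAt_eq ω hω δ h1 p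
  rw [hs] at hbd hm1 hm2
  have hsuppA : Module.support A A = Set.univ := by
    rw [Module.support_of_algebra]
    ext x
    simp only [Set.mem_univ, iff_true, PrimeSpectrum.mem_zeroLocus]
    intro y hy
    have h0 : y = 0 := by
      have : algebraMap A A y = 0 := hy
      simpa using this
    rw [h0]
    exact x.asIdeal.zero_mem
  have he' := Groth.Agent.H71.SK.supportDim_localized_of_support_eq_univ A p.asIdeal hsuppA
  rw [PrimeSpectrum.height_eq_orderHeight, hht] at he'
  have hee : e = (n - δ p).toNat := by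
    rw [he'] at he
    have h2 : (((n - δ p).toNat : ℕ) : WithBot ℕ∞) = ((e : ℕ) : WithBot ℕ∞) := he
    have h3 : ((((n - δ p).toNat : ℕ) : ℕ∞) : WithBot ℕ∞) = (((e : ℕ) : ℕ∞) : WithBot ℕ∞) := h2
    rw [WithBot.coe_inj, Nat.cast_inj] at h3
    exact h3.symm
  have hde : (d : ℤ) ≤ e := by
    have := (hbd _ hm1).1
    omega
  refine ⟨d, hdep, he', by omega, hδ0, hδn, ?_, ?_, ?_, ?_⟩
  · intro j hj
    rw [← support_hom_eq] at hj
    have := hbd j hj
    omega
  · rw [← support_hom_eq]
    have h : -δ p - (d : ℤ) = -δ p - ((d : ℕ) : ℤ) := rfl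
    exact hm1
  · rw [← support_hom_eq]
    have h : -δ p - ((e : ℕ) : ℤ) = -(n : ℤ) := by omega
    rw [← h]
    exact hm2
  · rw [← Groth.Agent.H71.DimFun.coheight_eq_ringKrullDim_quotient, hco]
    rfl

end Groth.Agent.H71.DKG
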