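import Mathlib
import Groth.Prelude.Def_Wider
import Groth.Agent.H12.DualDepth
import Groth.Agent.H71.DK.Defs

/-!
# S0364 squad: statements (stubs with `sorry` — DO NOT IMPORT in final proofs)
-/

set_option autoImplicit false
universe u
open CategoryTheory CategoryTheory.Limits DerivedCategory Pretriangulated

namespace Groth.Agent.H71.DKS

attribute [local instance] HasDerivedCategory.standard

open Groth.Agent.H12.DualDepth DerivedCategory.TStructure Groth.Agent.H71.DK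

variable {A : Type u} [CommRing A]

theorem vanO_def_check (X W : Dual.D A) (i : ℤ) : VanO X W i ↔ ∀ φ : X ⟶ W⟦i⟧, φ = 0 := Iff.rfl

/-- (DK1) nilpotency of scalars on a cone -/
theorem smul_id_cone_sq {X Z : Dual.D A} (a c : A) (g : X ⟶ Z) (h : Z ⟶ X⟦(1 : ℤ)⟧)
    (hT : Triangle.mk (a • 𝟙 X) g h ∈ distTriang (Dual.D A)) (hc : c • 𝟙 X = 0) :
    (c * c) • 𝟙 Z = 0 := by
  sorry

theorem smul_id_cone_self {X Z : Dual.D A} (a : A) (g : X ⟶ Z) (h : Z ⟶ X⟦(1 : ℤ)⟧)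
    (hT : Triangle.mk (a • 𝟙 X) g h ∈ distTriang (Dual.D A)) :
    (a * a) • 𝟙 Z = 0 := by
  sorry

/-- (DK2a) first variable, vanishing -/
theorem vanO_cone_left {X Z : Dual.D A} (a : A) (g : X ⟶ Z) (h : Z ⟶ X⟦(1 : ℤ)⟧)
    (hT : Triangle.mk (a • 𝟙 X) g h ∈ distTriang (Dual.D A)) (W : Dual.D A) (i j : ℤ)
    (hij : i + 1 = j) (h1 : VanO X W i) (h2 : VanO X W j) : VanO Z W j := by
  sorry

/-- (DK2b) first variable, top degree: `Hom(Z, W[j]) ≅ Hom(X, W[i]) / a` when `Hom(X, W[j]) = 0` -/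
theorem exists_top_cone_left {X Z : Dual.D A} (a : A) (g : X ⟶ Z) (h : Z ⟶ X⟦(1 : ℤ)⟧)
    (hT : Triangle.mk (a • 𝟙 X) g h ∈ distTriang (Dual.D A)) (W : Dual.D A) (i j : ℤ)
    (hij : i + 1 = j) (h2 : VanO X W j) :
    ∃ q : (X ⟶ W⟦i⟧) →ₗ[A] (Z ⟶ W⟦j⟧), Function.Surjective q ∧
      ∀ ψ : X ⟶ W⟦i⟧, q ψ = 0 ↔ ∃ ψ' : X ⟶ W⟦i⟧, ψ = a • ψ' := by
  sorry

/-- (DK3a) second variable, vanishing -/
theorem vanO_cone_right {Y Z : Dual.D A} (a : A) (g : Y ⟶ Z) (h : Z ⟶ Y⟦(1 : ℤ)⟧)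
    (hT : Triangle.mk (a • 𝟙 Y) g h ∈ distTriang (Dual.D A)) (X : Dual.D A) (i j : ℤ)
    (hij : i + 1 = j) (h1 : VanO X Y i) (h2 : VanO X Y j) : VanO X Z i := by
  sorry

/-- (DK3b) second variable, bottom degree: an `a`-torsion element of `Hom(X, Y[j])` gives a
nonzero element of `Hom(X, Z[i])` when `Hom(X, Y[i]) = 0` -/
theorem not_vanO_cone_right {Y Z : Dual.D A} (a : A) (g : Y ⟶ Z) (h : Z ⟶ Y⟦(1 : ℤ)⟧)
    (hT : Triangle.mk (a • 𝟙 Y) g h ∈ distTriang (Dual.D A)) (X : Dual.D A) (i j : ℤ)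
    (hij : i + 1 = j) (ψ : X ⟶ Y⟦j⟧) (hψ : ψ ≠ 0) (haψ : a • ψ = 0) : ¬ VanO X Z i := by
  sorry

/-- (DK4) amplitude -/
theorem vanO_self_of_amplitude (X : Dual.D A) (j₀ j₁ : ℤ) [X.IsGE j₀] [X.IsLE j₁] (i : ℤ)
    (hi : i < j₀ - j₁) : VanO X X i := by
  sorry

/-- (DK5) dévissage along the canonical truncations -/
theorem vanO_of_van_homology (X W : Dual.D A) (j₀ j₁ : ℤ) [X.IsGE j₀] [X.IsLE j₁] (i : ℤ)
    (h : ∀ j, j₀ ≤ j → j ≤ j₁ →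
      Van W (i + j) ((homologyFunctor (ModuleCat.{u} A) j).obj X)) : VanO X W i := by
  sorry

/-- (DK6a) surjection onto `Hom` from the bottom cohomology -/
theorem exists_surjective_bottom (X W : Dual.D A) (j₀ j₁ : ℤ) [X.IsGE j₀] [X.IsLE j₁] (i p : ℤ)
    (hip : i + j₀ = p)
    (h : ∀ j, j₀ < j → j ≤ j₁ →
      Van W (i + 1 + j) ((homologyFunctor (ModuleCat.{u} A) j).obj X)) :
    ∃ q : (X ⟶ W⟦i⟧) →ₗ[A]
        (sM ((homologyFunctor (ModuleCat.{u} A) j₀).obj X) ⟶ W⟦p⟧), Function.Surjective q := by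
  sorry

/-- (DK6b) nonvanishing from the top cohomology -/
theorem not_vanO_of_top (X W : Dual.D A) (j₀ j₁ : ℤ) [X.IsGE j₀] [X.IsLE j₁] (i p : ℤ)
    (hip : i + j₁ = p)
    (h : ∀ j, j₀ ≤ j → j < j₁ →
      Van W (i - 1 + j) ((homologyFunctor (ModuleCat.{u} A) j).obj X))
    (hp : ¬ Van W p ((homologyFunctor (ModuleCat.{u} A) j₁).obj X)) : ¬ VanO X W i := by
  sorry

/-- (DK8a) cohomology of a cone: finiteness -/
theorem finite_homology_cone [IsNoetherianRing A] {X Z : Dual.D A} (a : A) (g : X ⟶ Z)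
    (h : Z ⟶ X⟦(1 : ℤ)⟧) (hT : Triangle.mk (a • 𝟙 X) g h ∈ distTriang (Dual.D A))
    (hX : ∀ j : ℤ, Module.Finite A ((homologyFunctor (ModuleCat.{u} A) j).obj X)) (j : ℤ) :
    Module.Finite A ((homologyFunctor (ModuleCat.{u} A) j).obj Z) := by
  sorry

/-- (DK8b) cohomology of a cone: boundedness -/
theorem isGE_isLE_cone {X Z : Dual.D A} (a : A) (g : X ⟶ Z)
    (h : Z ⟶ X⟦(1 : ℤ)⟧) (hT : Triangle.mk (a • 𝟙 X) g h ∈ distTriang (Dual.D A))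
    (j₀ j₁ : ℤ) [X.IsGE j₀] [X.IsLE j₁] : Z.IsGE (j₀ - 1) ∧ Z.IsLE j₁ := by
  sorry

/-- (DK8c) scalars killing the identity kill the cohomology -/
theorem smul_homology_eq_zero (X : Dual.D A) (c : A) (hc : c • 𝟙 X = 0) (j : ℤ)
    (x : (homologyFunctor (ModuleCat.{u} A) j).obj X) : c • x = 0 := by
  sorry

end Groth.Agent.H71.DKS
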